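import Cfsg.Agent.Spor.U12672.D0

set_option autoImplicit false
set_option maxRecDepth 100000000
set_option Elab.async false

namespace Cfsg.Agent.Spor.U12672

theorem ok0 : Net.okb 14 n0 = true := by decide +kernel

theorem ok1 : Net.okb 14 n1 = true := by decide +kernel

theorem ok2 : Net.okb 14 n2 = true := by decide +kernel

theorem ok3 : Net.okb 14 n3 = true := by decide +kernel

theorem ok4 : Net.okb 14 n4 = true := by decide +kernel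

theorem ok5 : Net.okb 14 n5 = true := by decide +kernel

theorem ok6 : Net.okb 14 n6 = true := by decide +kernel

theorem ok7 : Net.okb 14 n7 = true := by decide +kernel

theorem ok8 : Net.okb 14 n8 = true := by decide +kernel

theorem rel0 : T.rel 14 [1, 1] 0 14 = true := by decide +kernel

theorem rel1 : T.rel 14 [2, 2] 0 14 = true := by decide +kernel

theorem rel2 : T.rel 14 [3, 3] 0 14 = true := by decide +kernel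

theorem rel3 : T.rel 14 [4, 4] 0 14 = true := by decide +kernel

theorem rel4 : T.rel 14 [5, 5] 0 14 = true := by decide +kernel

theorem rel5 : T.rel 14 [6, 6] 0 14 = true := by decide +kernel

theorem rel6 : T.rel 14 [7, 7] 0 14 = true := by decide +kernel

theorem rel7 : T.rel 14 [8, 8] 0 14 = true := by decide +kernel

theorem rel8 : T.rel 14 [9, 9] 0 14 = true := by decide +kernel

theorem rel9 : T.rel 14 [3, 2, 3, 2, 3, 2] 0 14 = true := by decide +kernel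

theorem rel10 : T.rel 14 [4, 2, 4, 2] 0 14 = true := by decide +kernel

theorem rel11 : T.rel 14 [5, 2, 5, 2] 0 14 = true := by decide +kernel

theorem rel12 : T.rel 14 [6, 2, 6, 2] 0 14 = true := by decide +kernel

theorem rel13 : T.rel 14 [7, 2, 7, 2] 0 14 = true := by decide +kernel

theorem rel14 : T.rel 14 [8, 2, 8, 2] 0 14 = true := by decide +kernel

theorem rel15 : T.rel 14 [9, 2, 9, 2] 0 14 = true := by decide +kernel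

theorem rel16 : T.rel 14 [4, 3, 4, 3, 4, 3] 0 14 = true := by decide +kernel

theorem rel17 : T.rel 14 [5, 3, 5, 3] 0 14 = true := by decide +kernel

theorem rel18 : T.rel 14 [6, 3, 6, 3] 0 14 = true := by decide +kernel

theorem rel19 : T.rel 14 [7, 3, 7, 3, 7, 3] 0 14 = true := by decide +kernel

theorem rel20 : T.rel 14 [8, 3, 8, 3] 0 14 = true := by decide +kernel

theorem rel21 : T.rel 14 [9, 3, 9, 3] 0 14 = true := by decide +kernel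

theorem rel22 : T.rel 14 [5, 4, 5, 4, 5, 4] 0 14 = true := by decide +kernel

theorem rel23 : T.rel 14 [6, 4, 6, 4] 0 14 = true := by decide +kernel

theorem rel24 : T.rel 14 [7, 4, 7, 4] 0 14 = true := by decide +kernel

theorem rel25 : T.rel 14 [8, 4, 8, 4] 0 14 = true := by decide +kernel

theorem rel26 : T.rel 14 [9, 4, 9, 4] 0 14 = true := by decide +kernel

theorem rel27 : T.rel 14 [6, 5, 6, 5, 6, 5] 0 14 = true := by decide +kernel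

theorem rel28 : T.rel 14 [7, 5, 7, 5] 0 14 = true := by decide +kernel

theorem rel29 : T.rel 14 [8, 5, 8, 5] 0 14 = true := by decide +kernel

theorem rel30 : T.rel 14 [9, 5, 9, 5, 9, 5] 0 14 = true := by decide +kernel

theorem rel31 : T.rel 14 [7, 6, 7, 6] 0 14 = true := by decide +kernel

theorem rel32 : T.rel 14 [8, 6, 8, 6] 0 14 = true := by decide +kernel

theorem rel33 : T.rel 14 [9, 6, 9, 6] 0 14 = true := by decide +kernel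

theorem rel34 : T.rel 14 [8, 7, 8, 7, 8, 7] 0 14 = true := by decide +kernel

theorem rel35 : T.rel 14 [9, 7, 9, 7] 0 14 = true := by decide +kernel

theorem rel36 : T.rel 14 [9, 8, 9, 8, 9, 8] 0 14 = true := by decide +kernel

theorem rel37 : T.rel 14 [2, 1, 2, 1] 0 14 = true := by decide +kernel

theorem rel38 : T.rel 14 [3, 1, 3, 1] 0 14 = true := by decide +kernel

theorem rel39 : T.rel 14 [4, 1, 4, 1] 0 14 = true := by decide +kernel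

theorem rel40 : T.rel 14 [5, 1, 5, 1] 0 14 = true := by decide +kernel

theorem rel41 : T.rel 14 [6, 1, 6, 1] 0 14 = true := by decide +kernel

theorem rel42 : T.rel 14 [7, 1, 7, 1] 0 14 = true := by decide +kernel

theorem rel43 : T.rel 14 [8, 1, 8, 1] 0 14 = true := by decide +kernel

theorem rel44 : T.rel 14 [9, 1, 9, 1] 0 14 = true := by decide +kernel

theorem rel45 : T.rel 14 [2, 6, 5, 4, 3, 7, 8, 2, 6, 5, 4, 3, 7, 8, 2, 6, 5, 4, 3, 7, 8, 2, 6, 5, 4, 3, 7, 8, 2, 6, 5, 4, 3, 7, 8, 2, 6, 5, 4, 3, 7, 8, 2, 6, 5, 4, 3, 7, 8, 2, 6, 5, 4, 3, 7, 8, 2, 6, 5, 4, 3, 7, 8] 0 14 = true := by decide +kernel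

theorem rel46 : T.rel 14 [9, 5, 4, 3, 8, 7, 9, 5, 8, 9, 4, 3, 7, 8, 5, 9, 4, 5, 3, 4, 7, 3, 8, 7] 0 14 = true := by decide +kernel

theorem rel47 : T.rel 14 [9, 5, 4, 3, 6, 5, 4, 7, 9, 5, 6, 3, 4, 5, 9, 7, 3, 4, 5, 6, 7, 3, 4, 5, 7, 3, 4, 7, 3, 7] 0 14 = true := by decide +kernel

theorem rel48 : T.rel 14 [1, 9, 5, 4, 3, 2, 7, 3, 4, 5, 9, 7, 3, 2, 4, 5, 3, 4, 7, 3, 2, 7, 3, 4, 5, 7, 3, 4, 7, 3, 7] 0 14 = true := by decide +kernel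

theorem hcov : T.treeCov (ones 12672) L 1 = true := by decide +kernel

theorem hg : lall (fun z => band (memL L z) (band (sub (ones 12672) (T.let z).cl) (T.closed (ones 12672) z))) gs = true := by decide +kernel

theorem rot1_1 : T.rot 1 [1] (sel (ones 12672) ip1 1) = true := by decide +kernel

theorem rot1_1r : band (Rule.ok (2 * 9) EX RL ⟨1 :: [1], [], 40, false⟩) (lall (memL L) [1]) = true := by decide +kernel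

theorem rot1_2 : T.rot 1 [2, 1, 2] (sel (ones 12672) ip1 2) = true := by decide +kernel

theorem rot1_2r : band (Rule.ok (2 * 9) EX RL ⟨1 :: [2, 1, 2], [], 28, false⟩) (lall (memL L) [2, 1, 2]) = true := by decide +kernel

theorem rot1_3 : T.rot 1 [3, 1, 3] (sel (ones 12672) ip1 3) = true := by decide +kernel

theorem rot1_3r : band (Rule.ok (2 * 9) EX RL ⟨1 :: [3, 1, 3], [], 29, false⟩) (lall (memL L) [3, 1, 3]) = true := by decide +kernel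

theorem rot1_4 : T.rot 1 [4, 1, 4] (sel (ones 12672) ip1 4) = true := by decide +kernel

theorem rot1_4r : band (Rule.ok (2 * 9) EX RL ⟨1 :: [4, 1, 4], [], 30, false⟩) (lall (memL L) [4, 1, 4]) = true := by decide +kernel

theorem rot1_5 : T.rot 1 [5, 1, 5] (sel (ones 12672) ip1 5) = true := by decide +kernel

theorem rot1_5r : band (Rule.ok (2 * 9) EX RL ⟨1 :: [5, 1, 5], [], 31, false⟩) (lall (memL L) [5, 1, 5]) = true := by decide +kernel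

theorem rot1_6 : T.rot 1 [6, 1, 6] (sel (ones 12672) ip1 6) = true := by decide +kernel

theorem rot1_6r : band (Rule.ok (2 * 9) EX RL ⟨1 :: [6, 1, 6], [], 32, false⟩) (lall (memL L) [6, 1, 6]) = true := by decide +kernel

theorem rot1_7 : T.rot 1 [7, 1, 7] (sel (ones 12672) ip1 7) = true := by decide +kernel

theorem rot1_7r : band (Rule.ok (2 * 9) EX RL ⟨1 :: [7, 1, 7], [], 33, false⟩) (lall (memL L) [7, 1, 7]) = true := by decide +kernel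

theorem rot1_8 : T.rot 1 [8, 1, 8] (sel (ones 12672) ip1 8) = true := by decide +kernel

theorem rot1_8r : band (Rule.ok (2 * 9) EX RL ⟨1 :: [8, 1, 8], [], 34, false⟩) (lall (memL L) [8, 1, 8]) = true := by decide +kernel

theorem rot1_9 : T.rot 1 [9, 1, 9] (sel (ones 12672) ip1 9) = true := by decide +kernel

theorem rot1_9r : band (Rule.ok (2 * 9) EX RL ⟨1 :: [9, 1, 9], [], 35, false⟩) (lall (memL L) [9, 1, 9]) = true := by decide +kernel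

theorem rot1_10 : T.rot 1 [9, 5, 4, 3, 2, 7, 3, 4, 5, 9, 7, 3, 2, 4, 5, 3, 4, 7, 3, 2, 7, 3, 4, 5, 7, 3, 4, 7, 3, 7] (sel (ones 12672) ip1 10) = true := by decide +kernel

theorem rot1_10r : band (Rule.ok (2 * 9) EX RL ⟨1 :: [9, 5, 4, 3, 2, 7, 3, 4, 5, 9, 7, 3, 2, 4, 5, 3, 4, 7, 3, 2, 7, 3, 4, 5, 7, 3, 4, 7, 3, 7], [], 39, true⟩) (lall (memL L) [9, 5, 4, 3, 2, 7, 3, 4, 5, 9, 7, 3, 2, 4, 5, 3, 4, 7, 3, 2, 7, 3, 4, 5, 7, 3, 4, 7, 3, 7]) = true := by decide +kernel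

theorem rot1_11 : T.rot 1 [7, 3, 7, 4, 3, 7, 5, 4, 3, 7, 2, 3, 7, 4, 3, 5, 4, 2, 3, 7, 9, 5, 4, 3, 7, 2, 3, 4, 5, 9] (sel (ones 12672) ip1 11) = true := by decide +kernel

theorem rot1_11r : band (Rule.ok (2 * 9) EX RL ⟨1 :: [7, 3, 7, 4, 3, 7, 5, 4, 3, 7, 2, 3, 7, 4, 3, 5, 4, 2, 3, 7, 9, 5, 4, 3, 7, 2, 3, 4, 5, 9], [0], 39, false⟩) (lall (memL L) [7, 3, 7, 4, 3, 7, 5, 4, 3, 7, 2, 3, 7, 4, 3, 5, 4, 2, 3, 7, 9, 5, 4, 3, 7, 2, 3, 4, 5, 9]) = true := by decide +kernel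

theorem cov1 : T.cover 1 [(sel (ones 12672) ip1 1), (sel (ones 12672) ip1 2), (sel (ones 12672) ip1 3), (sel (ones 12672) ip1 4), (sel (ones 12672) ip1 5), (sel (ones 12672) ip1 6), (sel (ones 12672) ip1 7), (sel (ones 12672) ip1 8), (sel (ones 12672) ip1 9), (sel (ones 12672) ip1 10), (sel (ones 12672) ip1 11)] = true := by decide +kernel

theorem tl1 : T.treeLt 14 1 = true := by decide +kernel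

theorem rot2_1 : T.rot 2 [2] (sel (ones 12672) ip2 1) = true := by decide +kernel

theorem rot2_1r : band (Rule.ok (2 * 9) EX RL ⟨2 :: [2], [], 40, false⟩) (lall (memL L) [2]) = true := by decide +kernel

theorem rot2_2 : T.rot 2 [4, 2, 4] (sel (ones 12672) ip2 2) = true := by decide +kernel

theorem rot2_2r : band (Rule.ok (2 * 9) EX RL ⟨2 :: [4, 2, 4], [], 1, false⟩) (lall (memL L) [4, 2, 4]) = true := by decide +kernel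

theorem rot2_3 : T.rot 2 [5, 2, 5] (sel (ones 12672) ip2 3) = true := by decide +kernel

theorem rot2_3r : band (Rule.ok (2 * 9) EX RL ⟨2 :: [5, 2, 5], [], 2, false⟩) (lall (memL L) [5, 2, 5]) = true := by decide +kernel

theorem rot2_4 : T.rot 2 [6, 2, 6] (sel (ones 12672) ip2 4) = true := by decide +kernel

theorem rot2_4r : band (Rule.ok (2 * 9) EX RL ⟨2 :: [6, 2, 6], [], 3, false⟩) (lall (memL L) [6, 2, 6]) = true := by decide +kernel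

theorem rot2_5 : T.rot 2 [7, 2, 7] (sel (ones 12672) ip2 5) = true := by decide +kernel

theorem rot2_5r : band (Rule.ok (2 * 9) EX RL ⟨2 :: [7, 2, 7], [], 4, false⟩) (lall (memL L) [7, 2, 7]) = true := by decide +kernel

theorem rot2_6 : T.rot 2 [8, 2, 8] (sel (ones 12672) ip2 6) = true := by decide +kernel

theorem rot2_6r : band (Rule.ok (2 * 9) EX RL ⟨2 :: [8, 2, 8], [], 5, false⟩) (lall (memL L) [8, 2, 8]) = true := by decide +kernel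

theorem rot2_7 : T.rot 2 [9, 2, 9] (sel (ones 12672) ip2 7) = true := by decide +kernel

theorem rot2_7r : band (Rule.ok (2 * 9) EX RL ⟨2 :: [9, 2, 9], [], 6, false⟩) (lall (memL L) [9, 2, 9]) = true := by decide +kernel

theorem rot2_8 : T.rot 2 [1, 2, 1] (sel (ones 12672) ip2 8) = true := by decide +kernel

theorem rot2_8r : band (Rule.ok (2 * 9) EX RL ⟨2 :: [1, 2, 1], [], 28, true⟩) (lall (memL L) [1, 2, 1]) = true := by decide +kernel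

theorem rot2_9 : T.rot 2 [3, 2, 3, 2, 3] (sel (ones 12672) ip2 9) = true := by decide +kernel

theorem rot2_9r : band (Rule.ok (2 * 9) EX RL ⟨2 :: [3, 2, 3, 2, 3], [], 0, false⟩) (lall (memL L) [3, 2, 3, 2, 3]) = true := by decide +kernel

theorem rot2_10 : T.rot 2 [7, 3, 4, 5, 9, 7, 3, 2, 4, 5, 3, 4, 7, 3, 2, 7, 3, 4, 5, 7, 3, 4, 7, 3, 7, 1, 9, 5, 4, 3] (sel (ones 12672) ip2 10) = true := by decide +kernel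

theorem rot2_10r : band (Rule.ok (2 * 9) EX RL ⟨2 :: [7, 3, 4, 5, 9, 7, 3, 2, 4, 5, 3, 4, 7, 3, 2, 7, 3, 4, 5, 7, 3, 4, 7, 3, 7, 1, 9, 5, 4, 3], [0, 16, 8, 6, 4], 39, true⟩) (lall (memL L) [7, 3, 4, 5, 9, 7, 3, 2, 4, 5, 3, 4, 7, 3, 2, 7, 3, 4, 5, 7, 3, 4, 7, 3, 7, 1, 9, 5, 4, 3]) = true := by decide +kernel

theorem rot2_11 : T.rot 2 [4, 5, 3, 4, 7, 3, 2, 7, 3, 4, 5, 7, 3, 4, 7, 3, 7, 1, 9, 5, 4, 3, 2, 7, 3, 4, 5, 9, 7, 3] (sel (ones 12672) ip2 11) = true := by decide +kernel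

theorem rot2_11r : band (Rule.ok (2 * 9) EX RL ⟨2 :: [4, 5, 3, 4, 7, 3, 2, 7, 3, 4, 5, 7, 3, 4, 7, 3, 7, 1, 9, 5, 4, 3, 2, 7, 3, 4, 5, 9, 7, 3], [0, 16, 8, 6, 4, 2, 12, 4, 6, 8, 16, 12, 4], 39, true⟩) (lall (memL L) [4, 5, 3, 4, 7, 3, 2, 7, 3, 4, 5, 7, 3, 4, 7, 3, 7, 1, 9, 5, 4, 3, 2, 7, 3, 4, 5, 9, 7, 3]) = true := by decide +kernel

theorem rot2_12 : T.rot 2 [7, 3, 4, 5, 7, 3, 4, 7, 3, 7, 1, 9, 5, 4, 3, 2, 7, 3, 4, 5, 9, 7, 3, 2, 4, 5, 3, 4, 7, 3] (sel (ones 12672) ip2 12) = true := by decide +kernel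

theorem rot2_12r : band (Rule.ok (2 * 9) EX RL ⟨2 :: [7, 3, 4, 5, 7, 3, 4, 7, 3, 7, 1, 9, 5, 4, 3, 2, 7, 3, 4, 5, 9, 7, 3, 2, 4, 5, 3, 4, 7, 3], [12, 4, 12, 6, 4, 12, 8, 6, 4, 12, 2], 39, true⟩) (lall (memL L) [7, 3, 4, 5, 7, 3, 4, 7, 3, 7, 1, 9, 5, 4, 3, 2, 7, 3, 4, 5, 9, 7, 3, 2, 4, 5, 3, 4, 7, 3]) = true := by decide +kernel

theorem rot2_13 : T.rot 2 [3, 7, 4, 3, 5, 4, 2, 3, 7, 9, 5, 4, 3, 7, 2, 3, 4, 5, 9, 1, 7, 3, 7, 4, 3, 7, 5, 4, 3, 7] (sel (ones 12672) ip2 13) = true := by decide +kernel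

theorem rot2_13r : band (Rule.ok (2 * 9) EX RL ⟨2 :: [3, 7, 4, 3, 5, 4, 2, 3, 7, 9, 5, 4, 3, 7, 2, 3, 4, 5, 9, 1, 7, 3, 7, 4, 3, 7, 5, 4, 3, 7], [12, 4, 12, 6, 4, 12, 8, 6, 4, 12], 39, false⟩) (lall (memL L) [3, 7, 4, 3, 5, 4, 2, 3, 7, 9, 5, 4, 3, 7, 2, 3, 4, 5, 9, 1, 7, 3, 7, 4, 3, 7, 5, 4, 3, 7]) = true := by decide +kernel

theorem rot2_14 : T.rot 2 [3, 7, 9, 5, 4, 3, 7, 2, 3, 4, 5, 9, 1, 7, 3, 7, 4, 3, 7, 5, 4, 3, 7, 2, 3, 7, 4, 3, 5, 4] (sel (ones 12672) ip2 14) = true := by decide +kernel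

theorem rot2_14r : band (Rule.ok (2 * 9) EX RL ⟨2 :: [3, 7, 9, 5, 4, 3, 7, 2, 3, 4, 5, 9, 1, 7, 3, 7, 4, 3, 7, 5, 4, 3, 7, 2, 3, 7, 4, 3, 5, 4], [0, 16, 8, 6, 4, 2, 12, 4, 6, 8, 16, 12, 4, 2], 39, false⟩) (lall (memL L) [3, 7, 9, 5, 4, 3, 7, 2, 3, 4, 5, 9, 1, 7, 3, 7, 4, 3, 7, 5, 4, 3, 7, 2, 3, 7, 4, 3, 5, 4]) = true := by decide +kernel

theorem rot2_15 : T.rot 2 [3, 4, 5, 9, 1, 7, 3, 7, 4, 3, 7, 5, 4, 3, 7, 2, 3, 7, 4, 3, 5, 4, 2, 3, 7, 9, 5, 4, 3, 7] (sel (ones 12672) ip2 15) = true := by decide +kernel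

theorem rot2_15r : band (Rule.ok (2 * 9) EX RL ⟨2 :: [3, 4, 5, 9, 1, 7, 3, 7, 4, 3, 7, 5, 4, 3, 7, 2, 3, 7, 4, 3, 5, 4, 2, 3, 7, 9, 5, 4, 3, 7], [0, 16, 8, 6, 4, 2], 39, false⟩) (lall (memL L) [3, 4, 5, 9, 1, 7, 3, 7, 4, 3, 7, 5, 4, 3, 7, 2, 3, 7, 4, 3, 5, 4, 2, 3, 7, 9, 5, 4, 3, 7]) = true := by decide +kernel

theorem rot2_16 : T.rot 2 [6, 5, 4, 3, 7, 8, 2, 6, 5, 4, 3, 7, 8, 2, 6, 5, 4, 3, 7, 8, 2, 6, 5, 4, 3, 7, 8, 2, 6, 5, 4, 3, 7, 8, 2, 6, 5, 4, 3, 7, 8, 2, 6, 5, 4, 3, 7, 8, 2, 6, 5, 4, 3, 7, 8, 2, 6, 5, 4, 3, 7, 8] (sel (ones 12672) ip2 16) = true := by decide +kernel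

theorem rot2_16r : band (Rule.ok (2 * 9) EX RL ⟨2 :: [6, 5, 4, 3, 7, 8, 2, 6, 5, 4, 3, 7, 8, 2, 6, 5, 4, 3, 7, 8, 2, 6, 5, 4, 3, 7, 8, 2, 6, 5, 4, 3, 7, 8, 2, 6, 5, 4, 3, 7, 8, 2, 6, 5, 4, 3, 7, 8, 2, 6, 5, 4, 3, 7, 8, 2, 6, 5, 4, 3, 7, 8], [], 36, true⟩) (lall (memL L) [6, 5, 4, 3, 7, 8, 2, 6, 5, 4, 3, 7, 8, 2, 6, 5, 4, 3, 7, 8, 2, 6, 5, 4, 3, 7, 8, 2, 6, 5, 4, 3, 7, 8, 2, 6, 5, 4, 3, 7, 8, 2, 6, 5, 4, 3, 7, 8, 2, 6, 5, 4, 3, 7, 8, 2, 6, 5, 4, 3, 7, 8]) = true := by decide +kernel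

theorem rot2_17 : T.rot 2 [8, 7, 3, 4, 5, 6, 2, 8, 7, 3, 4, 5, 6, 2, 8, 7, 3, 4, 5, 6, 2, 8, 7, 3, 4, 5, 6, 2, 8, 7, 3, 4, 5, 6, 2, 8, 7, 3, 4, 5, 6, 2, 8, 7, 3, 4, 5, 6, 2, 8, 7, 3, 4, 5, 6, 2, 8, 7, 3, 4, 5, 6] (sel (ones 12672) ip2 17) = true := by decide +kernel

theorem rot2_17r : band (Rule.ok (2 * 9) EX RL ⟨2 :: [8, 7, 3, 4, 5, 6, 2, 8, 7, 3, 4, 5, 6, 2, 8, 7, 3, 4, 5, 6, 2, 8, 7, 3, 4, 5, 6, 2, 8, 7, 3, 4, 5, 6, 2, 8, 7, 3, 4, 5, 6, 2, 8, 7, 3, 4, 5, 6, 2, 8, 7, 3, 4, 5, 6, 2, 8, 7, 3, 4, 5, 6], [2], 36, false⟩) (lall (memL L) [8, 7, 3, 4, 5, 6, 2, 8, 7, 3, 4, 5, 6, 2, 8, 7, 3, 4, 5, 6, 2, 8, 7, 3, 4, 5, 6, 2, 8, 7, 3, 4, 5, 6, 2, 8, 7, 3, 4, 5, 6, 2, 8, 7, 3, 4, 5, 6, 2, 8, 7, 3, 4, 5, 6, 2, 8, 7, 3, 4, 5, 6]) = true := by decide +kernel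

theorem cov2 : T.cover 2 [(sel (ones 12672) ip2 1), (sel (ones 12672) ip2 2), (sel (ones 12672) ip2 3), (sel (ones 12672) ip2 4), (sel (ones 12672) ip2 5), (sel (ones 12672) ip2 6), (sel (ones 12672) ip2 7), (sel (ones 12672) ip2 8), (sel (ones 12672) ip2 9), (sel (ones 12672) ip2 10), (sel (ones 12672) ip2 11), (sel (ones 12672) ip2 12), (sel (ones 12672) ip2 13), (sel (ones 12672) ip2 14), (sel (ones 12672) ip2 15), (sel (ones 12672) ip2 16), (sel (ones 12672) ip2 17), 1] = true := by decide +kernel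

theorem tl2 : T.treeLt 14 2 = true := by decide +kernel

theorem rot3_1 : T.rot 3 [3] (sel (ones 12672) ip3 1) = true := by decide +kernel

theorem rot3_1r : band (Rule.ok (2 * 9) EX RL ⟨3 :: [3], [], 40, false⟩) (lall (memL L) [3]) = true := by decide +kernel

theorem rot3_2 : T.rot 3 [5, 3, 5] (sel (ones 12672) ip3 2) = true := by decide +kernel

theorem rot3_2r : band (Rule.ok (2 * 9) EX RL ⟨3 :: [5, 3, 5], [], 8, false⟩) (lall (memL L) [5, 3, 5]) = true := by decide +kernel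

theorem rot3_3 : T.rot 3 [6, 3, 6] (sel (ones 12672) ip3 3) = true := by decide +kernel

theorem rot3_3r : band (Rule.ok (2 * 9) EX RL ⟨3 :: [6, 3, 6], [], 9, false⟩) (lall (memL L) [6, 3, 6]) = true := by decide +kernel

theorem rot3_4 : T.rot 3 [8, 3, 8] (sel (ones 12672) ip3 4) = true := by decide +kernel

theorem rot3_4r : band (Rule.ok (2 * 9) EX RL ⟨3 :: [8, 3, 8], [], 11, false⟩) (lall (memL L) [8, 3, 8]) = true := by decide +kernel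

theorem rot3_5 : T.rot 3 [9, 3, 9] (sel (ones 12672) ip3 5) = true := by decide +kernel

theorem rot3_5r : band (Rule.ok (2 * 9) EX RL ⟨3 :: [9, 3, 9], [], 12, false⟩) (lall (memL L) [9, 3, 9]) = true := by decide +kernel

theorem rot3_6 : T.rot 3 [1, 3, 1] (sel (ones 12672) ip3 6) = true := by decide +kernel

theorem rot3_6r : band (Rule.ok (2 * 9) EX RL ⟨3 :: [1, 3, 1], [], 29, true⟩) (lall (memL L) [1, 3, 1]) = true := by decide +kernel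

theorem rot3_7 : T.rot 3 [2, 3, 2, 3, 2] (sel (ones 12672) ip3 7) = true := by decide +kernel

theorem rot3_7r : band (Rule.ok (2 * 9) EX RL ⟨3 :: [2, 3, 2, 3, 2], [], 0, true⟩) (lall (memL L) [2, 3, 2, 3, 2]) = true := by decide +kernel

theorem rot3_8 : T.rot 3 [4, 3, 4, 3, 4] (sel (ones 12672) ip3 8) = true := by decide +kernel

theorem rot3_8r : band (Rule.ok (2 * 9) EX RL ⟨3 :: [4, 3, 4, 3, 4], [], 7, false⟩) (lall (memL L) [4, 3, 4, 3, 4]) = true := by decide +kernel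

theorem rot3_9 : T.rot 3 [7, 3, 7, 3, 7] (sel (ones 12672) ip3 9) = true := by decide +kernel

theorem rot3_9r : band (Rule.ok (2 * 9) EX RL ⟨3 :: [7, 3, 7, 3, 7], [], 10, false⟩) (lall (memL L) [7, 3, 7, 3, 7]) = true := by decide +kernel

theorem rot3_10 : T.rot 3 [8, 7, 9, 5, 8, 9, 4, 3, 7, 8, 5, 9, 4, 5, 3, 4, 7, 3, 8, 7, 9, 5, 4] (sel (ones 12672) ip3 10) = true := by decide +kernel

theorem rot3_10r : band (Rule.ok (2 * 9) EX RL ⟨3 :: [8, 7, 9, 5, 8, 9, 4, 3, 7, 8, 5, 9, 4, 5, 3, 4, 7, 3, 8, 7, 9, 5, 4], [16, 8, 6], 37, true⟩) (lall (memL L) [8, 7, 9, 5, 8, 9, 4, 3, 7, 8, 5, 9, 4, 5, 3, 4, 7, 3, 8, 7, 9, 5, 4]) = true := by decide +kernel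

theorem rot3_11 : T.rot 3 [7, 8, 5, 9, 4, 5, 3, 4, 7, 3, 8, 7, 9, 5, 4, 3, 8, 7, 9, 5, 8, 9, 4] (sel (ones 12672) ip3 11) = true := by decide +kernel

theorem rot3_11r : band (Rule.ok (2 * 9) EX RL ⟨3 :: [7, 8, 5, 9, 4, 5, 3, 4, 7, 3, 8, 7, 9, 5, 4, 3, 8, 7, 9, 5, 8, 9, 4], [16, 8, 6, 4, 14, 12, 16, 8, 14, 16, 6], 37, true⟩) (lall (memL L) [7, 8, 5, 9, 4, 5, 3, 4, 7, 3, 8, 7, 9, 5, 4, 3, 8, 7, 9, 5, 8, 9, 4]) = true := by decide +kernel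

theorem rot3_12 : T.rot 3 [4, 7, 3, 8, 7, 9, 5, 4, 3, 8, 7, 9, 5, 8, 9, 4, 3, 7, 8, 5, 9, 4, 5] (sel (ones 12672) ip3 12) = true := by decide +kernel

theorem rot3_12r : band (Rule.ok (2 * 9) EX RL ⟨3 :: [4, 7, 3, 8, 7, 9, 5, 4, 3, 8, 7, 9, 5, 8, 9, 4, 3, 7, 8, 5, 9, 4, 5], [12, 14, 4, 12, 6, 4], 37, true⟩) (lall (memL L) [4, 7, 3, 8, 7, 9, 5, 4, 3, 8, 7, 9, 5, 8, 9, 4, 3, 7, 8, 5, 9, 4, 5]) = true := by decide +kernel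

theorem rot3_13 : T.rot 3 [8, 7, 9, 5, 4, 3, 8, 7, 9, 5, 8, 9, 4, 3, 7, 8, 5, 9, 4, 5, 3, 4, 7] (sel (ones 12672) ip3 13) = true := by decide +kernel

theorem rot3_13r : band (Rule.ok (2 * 9) EX RL ⟨3 :: [8, 7, 9, 5, 4, 3, 8, 7, 9, 5, 8, 9, 4, 3, 7, 8, 5, 9, 4, 5, 3, 4, 7], [12, 14, 4], 37, true⟩) (lall (memL L) [8, 7, 9, 5, 4, 3, 8, 7, 9, 5, 8, 9, 4, 3, 7, 8, 5, 9, 4, 5, 3, 4, 7]) = true := by decide +kernel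

theorem rot3_14 : T.rot 3 [7, 4, 3, 5, 4, 9, 5, 8, 7, 3, 4, 9, 8, 5, 9, 7, 8, 3, 4, 5, 9, 7, 8] (sel (ones 12672) ip3 14) = true := by decide +kernel

theorem rot3_14r : band (Rule.ok (2 * 9) EX RL ⟨3 :: [7, 4, 3, 5, 4, 9, 5, 8, 7, 3, 4, 9, 8, 5, 9, 7, 8, 3, 4, 5, 9, 7, 8], [12, 14], 37, false⟩) (lall (memL L) [7, 4, 3, 5, 4, 9, 5, 8, 7, 3, 4, 9, 8, 5, 9, 7, 8, 3, 4, 5, 9, 7, 8]) = true := by decide +kernel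

theorem rot3_15 : T.rot 3 [5, 4, 9, 5, 8, 7, 3, 4, 9, 8, 5, 9, 7, 8, 3, 4, 5, 9, 7, 8, 3, 7, 4] (sel (ones 12672) ip3 15) = true := by decide +kernel

theorem rot3_15r : band (Rule.ok (2 * 9) EX RL ⟨3 :: [5, 4, 9, 5, 8, 7, 3, 4, 9, 8, 5, 9, 7, 8, 3, 4, 5, 9, 7, 8, 3, 7, 4], [12, 14, 4, 12, 6], 37, false⟩) (lall (memL L) [5, 4, 9, 5, 8, 7, 3, 4, 9, 8, 5, 9, 7, 8, 3, 4, 5, 9, 7, 8, 3, 7, 4]) = true := by decide +kernel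

theorem rot3_16 : T.rot 3 [4, 9, 8, 5, 9, 7, 8, 3, 4, 5, 9, 7, 8, 3, 7, 4, 3, 5, 4, 9, 5, 8, 7] (sel (ones 12672) ip3 16) = true := by decide +kernel

theorem rot3_16r : band (Rule.ok (2 * 9) EX RL ⟨3 :: [4, 9, 8, 5, 9, 7, 8, 3, 4, 5, 9, 7, 8, 3, 7, 4, 3, 5, 4, 9, 5, 8, 7], [16, 8, 6, 4, 14, 12, 16, 8, 14, 16, 6, 4], 37, false⟩) (lall (memL L) [4, 9, 8, 5, 9, 7, 8, 3, 4, 5, 9, 7, 8, 3, 7, 4, 3, 5, 4, 9, 5, 8, 7]) = true := by decide +kernel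

theorem rot3_17 : T.rot 3 [4, 5, 9, 7, 8, 3, 7, 4, 3, 5, 4, 9, 5, 8, 7, 3, 4, 9, 8, 5, 9, 7, 8] (sel (ones 12672) ip3 17) = true := by decide +kernel

theorem rot3_17r : band (Rule.ok (2 * 9) EX RL ⟨3 :: [4, 5, 9, 7, 8, 3, 7, 4, 3, 5, 4, 9, 5, 8, 7, 3, 4, 9, 8, 5, 9, 7, 8], [16, 8, 6, 4], 37, false⟩) (lall (memL L) [4, 5, 9, 7, 8, 3, 7, 4, 3, 5, 4, 9, 5, 8, 7, 3, 4, 9, 8, 5, 9, 7, 8]) = true := by decide +kernel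

theorem rot3_18 : T.rot 3 [6, 5, 4, 7, 9, 5, 6, 3, 4, 5, 9, 7, 3, 4, 5, 6, 7, 3, 4, 5, 7, 3, 4, 7, 3, 7, 9, 5, 4] (sel (ones 12672) ip3 18) = true := by decide +kernel

theorem rot3_18r : band (Rule.ok (2 * 9) EX RL ⟨3 :: [6, 5, 4, 7, 9, 5, 6, 3, 4, 5, 9, 7, 3, 4, 5, 6, 7, 3, 4, 5, 7, 3, 4, 7, 3, 7, 9, 5, 4], [16, 8, 6], 38, true⟩) (lall (memL L) [6, 5, 4, 7, 9, 5, 6, 3, 4, 5, 9, 7, 3, 4, 5, 6, 7, 3, 4, 5, 7, 3, 4, 7, 3, 7, 9, 5, 4]) = true := by decide +kernel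

theorem rot3_19 : T.rot 3 [4, 5, 9, 7, 3, 4, 5, 6, 7, 3, 4, 5, 7, 3, 4, 7, 3, 7, 9, 5, 4, 3, 6, 5, 4, 7, 9, 5, 6] (sel (ones 12672) ip3 19) = true := by decide +kernel

theorem rot3_19r : band (Rule.ok (2 * 9) EX RL ⟨3 :: [4, 5, 9, 7, 3, 4, 5, 6, 7, 3, 4, 5, 7, 3, 4, 7, 3, 7, 9, 5, 4, 3, 6, 5, 4, 7, 9, 5, 6], [16, 8, 6, 4, 10, 8, 6, 12, 16, 8, 10], 38, true⟩) (lall (memL L) [4, 5, 9, 7, 3, 4, 5, 6, 7, 3, 4, 5, 7, 3, 4, 7, 3, 7, 9, 5, 4, 3, 6, 5, 4, 7, 9, 5, 6]) = true := by decide +kernel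

theorem rot3_20 : T.rot 3 [4, 5, 6, 7, 3, 4, 5, 7, 3, 4, 7, 3, 7, 9, 5, 4, 3, 6, 5, 4, 7, 9, 5, 6, 3, 4, 5, 9, 7] (sel (ones 12672) ip3 20) = true := by decide +kernel

theorem rot3_20r : band (Rule.ok (2 * 9) EX RL ⟨3 :: [4, 5, 6, 7, 3, 4, 5, 7, 3, 4, 7, 3, 7, 9, 5, 4, 3, 6, 5, 4, 7, 9, 5, 6, 3, 4, 5, 9, 7], [12, 4, 12, 6, 4, 12, 8, 6, 4, 12, 10, 8, 6, 4], 38, true⟩) (lall (memL L) [4, 5, 6, 7, 3, 4, 5, 7, 3, 4, 7, 3, 7, 9, 5, 4, 3, 6, 5, 4, 7, 9, 5, 6, 3, 4, 5, 9, 7]) = true := by decide +kernel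

theorem rot3_21 : T.rot 3 [4, 5, 7, 3, 4, 7, 3, 7, 9, 5, 4, 3, 6, 5, 4, 7, 9, 5, 6, 3, 4, 5, 9, 7, 3, 4, 5, 6, 7] (sel (ones 12672) ip3 21) = true := by decide +kernel

theorem rot3_21r : band (Rule.ok (2 * 9) EX RL ⟨3 :: [4, 5, 7, 3, 4, 7, 3, 7, 9, 5, 4, 3, 6, 5, 4, 7, 9, 5, 6, 3, 4, 5, 9, 7, 3, 4, 5, 6, 7], [12, 4, 12, 6, 4, 12, 8, 6, 4], 38, true⟩) (lall (memL L) [4, 5, 7, 3, 4, 7, 3, 7, 9, 5, 4, 3, 6, 5, 4, 7, 9, 5, 6, 3, 4, 5, 9, 7, 3, 4, 5, 6, 7]) = true := by decide +kernel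

theorem rot3_22 : T.rot 3 [4, 7, 3, 7, 9, 5, 4, 3, 6, 5, 4, 7, 9, 5, 6, 3, 4, 5, 9, 7, 3, 4, 5, 6, 7, 3, 4, 5, 7] (sel (ones 12672) ip3 22) = true := by decide +kernel

theorem rot3_22r : band (Rule.ok (2 * 9) EX RL ⟨3 :: [4, 7, 3, 7, 9, 5, 4, 3, 6, 5, 4, 7, 9, 5, 6, 3, 4, 5, 9, 7, 3, 4, 5, 6, 7, 3, 4, 5, 7], [12, 4, 12, 6, 4], 38, true⟩) (lall (memL L) [4, 7, 3, 7, 9, 5, 4, 3, 6, 5, 4, 7, 9, 5, 6, 3, 4, 5, 9, 7, 3, 4, 5, 6, 7, 3, 4, 5, 7]) = true := by decide +kernel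

theorem rot3_23 : T.rot 3 [7, 9, 5, 4, 3, 6, 5, 4, 7, 9, 5, 6, 3, 4, 5, 9, 7, 3, 4, 5, 6, 7, 3, 4, 5, 7, 3, 4, 7] (sel (ones 12672) ip3 23) = true := by decide +kernel

theorem rot3_23r : band (Rule.ok (2 * 9) EX RL ⟨3 :: [7, 9, 5, 4, 3, 6, 5, 4, 7, 9, 5, 6, 3, 4, 5, 9, 7, 3, 4, 5, 6, 7, 3, 4, 5, 7, 3, 4, 7], [12, 4], 38, true⟩) (lall (memL L) [7, 9, 5, 4, 3, 6, 5, 4, 7, 9, 5, 6, 3, 4, 5, 9, 7, 3, 4, 5, 6, 7, 3, 4, 5, 7, 3, 4, 7]) = true := by decide +kernel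

theorem rot3_24 : T.rot 3 [7, 4, 3, 7, 5, 4, 3, 7, 6, 5, 4, 3, 7, 9, 5, 4, 3, 6, 5, 9, 7, 4, 5, 6, 3, 4, 5, 9, 7] (sel (ones 12672) ip3 24) = true := by decide +kernel

theorem rot3_24r : band (Rule.ok (2 * 9) EX RL ⟨3 :: [7, 4, 3, 7, 5, 4, 3, 7, 6, 5, 4, 3, 7, 9, 5, 4, 3, 6, 5, 9, 7, 4, 5, 6, 3, 4, 5, 9, 7], [12], 38, false⟩) (lall (memL L) [7, 4, 3, 7, 5, 4, 3, 7, 6, 5, 4, 3, 7, 9, 5, 4, 3, 6, 5, 9, 7, 4, 5, 6, 3, 4, 5, 9, 7]) = true := by decide +kernel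

theorem rot3_25 : T.rot 3 [7, 5, 4, 3, 7, 6, 5, 4, 3, 7, 9, 5, 4, 3, 6, 5, 9, 7, 4, 5, 6, 3, 4, 5, 9, 7, 3, 7, 4] (sel (ones 12672) ip3 25) = true := by decide +kernel

theorem rot3_25r : band (Rule.ok (2 * 9) EX RL ⟨3 :: [7, 5, 4, 3, 7, 6, 5, 4, 3, 7, 9, 5, 4, 3, 6, 5, 9, 7, 4, 5, 6, 3, 4, 5, 9, 7, 3, 7, 4], [12, 4, 12, 6], 38, false⟩) (lall (memL L) [7, 5, 4, 3, 7, 6, 5, 4, 3, 7, 9, 5, 4, 3, 6, 5, 9, 7, 4, 5, 6, 3, 4, 5, 9, 7, 3, 7, 4]) = true := by decide +kernel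

theorem rot3_26 : T.rot 3 [7, 6, 5, 4, 3, 7, 9, 5, 4, 3, 6, 5, 9, 7, 4, 5, 6, 3, 4, 5, 9, 7, 3, 7, 4, 3, 7, 5, 4] (sel (ones 12672) ip3 26) = true := by decide +kernel

theorem rot3_26r : band (Rule.ok (2 * 9) EX RL ⟨3 :: [7, 6, 5, 4, 3, 7, 9, 5, 4, 3, 6, 5, 9, 7, 4, 5, 6, 3, 4, 5, 9, 7, 3, 7, 4, 3, 7, 5, 4], [12, 4, 12, 6, 4, 12, 8, 6], 38, false⟩) (lall (memL L) [7, 6, 5, 4, 3, 7, 9, 5, 4, 3, 6, 5, 9, 7, 4, 5, 6, 3, 4, 5, 9, 7, 3, 7, 4, 3, 7, 5, 4]) = true := by decide +kernel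

theorem rot3_27 : T.rot 3 [7, 9, 5, 4, 3, 6, 5, 9, 7, 4, 5, 6, 3, 4, 5, 9, 7, 3, 7, 4, 3, 7, 5, 4, 3, 7, 6, 5, 4] (sel (ones 12672) ip3 27) = true := by decide +kernel

theorem rot3_27r : band (Rule.ok (2 * 9) EX RL ⟨3 :: [7, 9, 5, 4, 3, 6, 5, 9, 7, 4, 5, 6, 3, 4, 5, 9, 7, 3, 7, 4, 3, 7, 5, 4, 3, 7, 6, 5, 4], [12, 4, 12, 6, 4, 12, 8, 6, 4, 12, 10, 8, 6], 38, false⟩) (lall (memL L) [7, 9, 5, 4, 3, 6, 5, 9, 7, 4, 5, 6, 3, 4, 5, 9, 7, 3, 7, 4, 3, 7, 5, 4, 3, 7, 6, 5, 4]) = true := by decide +kernel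

theorem rot3_28 : T.rot 3 [6, 5, 9, 7, 4, 5, 6, 3, 4, 5, 9, 7, 3, 7, 4, 3, 7, 5, 4, 3, 7, 6, 5, 4, 3, 7, 9, 5, 4] (sel (ones 12672) ip3 28) = true := by decide +kernel

theorem rot3_28r : band (Rule.ok (2 * 9) EX RL ⟨3 :: [6, 5, 9, 7, 4, 5, 6, 3, 4, 5, 9, 7, 3, 7, 4, 3, 7, 5, 4, 3, 7, 6, 5, 4, 3, 7, 9, 5, 4], [16, 8, 6, 4, 10, 8, 6, 12, 16, 8, 10, 4], 38, false⟩) (lall (memL L) [6, 5, 9, 7, 4, 5, 6, 3, 4, 5, 9, 7, 3, 7, 4, 3, 7, 5, 4, 3, 7, 6, 5, 4, 3, 7, 9, 5, 4]) = true := by decide +kernel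

theorem rot3_29 : T.rot 3 [4, 5, 9, 7, 3, 7, 4, 3, 7, 5, 4, 3, 7, 6, 5, 4, 3, 7, 9, 5, 4, 3, 6, 5, 9, 7, 4, 5, 6] (sel (ones 12672) ip3 29) = true := by decide +kernel

theorem rot3_29r : band (Rule.ok (2 * 9) EX RL ⟨3 :: [4, 5, 9, 7, 3, 7, 4, 3, 7, 5, 4, 3, 7, 6, 5, 4, 3, 7, 9, 5, 4, 3, 6, 5, 9, 7, 4, 5, 6], [16, 8, 6, 4], 38, false⟩) (lall (memL L) [4, 5, 9, 7, 3, 7, 4, 3, 7, 5, 4, 3, 7, 6, 5, 4, 3, 7, 9, 5, 4, 3, 6, 5, 9, 7, 4, 5, 6]) = true := by decide +kernel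

theorem rot3_30 : T.rot 3 [2, 7, 3, 4, 5, 9, 7, 3, 2, 4, 5, 3, 4, 7, 3, 2, 7, 3, 4, 5, 7, 3, 4, 7, 3, 7, 1, 9, 5, 4] (sel (ones 12672) ip3 30) = true := by decide +kernel

theorem rot3_30r : band (Rule.ok (2 * 9) EX RL ⟨3 :: [2, 7, 3, 4, 5, 9, 7, 3, 2, 4, 5, 3, 4, 7, 3, 2, 7, 3, 4, 5, 7, 3, 4, 7, 3, 7, 1, 9, 5, 4], [0, 16, 8, 6], 39, true⟩) (lall (memL L) [2, 7, 3, 4, 5, 9, 7, 3, 2, 4, 5, 3, 4, 7, 3, 2, 7, 3, 4, 5, 7, 3, 4, 7, 3, 7, 1, 9, 5, 4]) = true := by decide +kernel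

theorem rot3_31 : T.rot 3 [4, 5, 9, 7, 3, 2, 4, 5, 3, 4, 7, 3, 2, 7, 3, 4, 5, 7, 3, 4, 7, 3, 7, 1, 9, 5, 4, 3, 2, 7] (sel (ones 12672) ip3 31) = true := by decide +kernel

theorem rot3_31r : band (Rule.ok (2 * 9) EX RL ⟨3 :: [4, 5, 9, 7, 3, 2, 4, 5, 3, 4, 7, 3, 2, 7, 3, 4, 5, 7, 3, 4, 7, 3, 7, 1, 9, 5, 4, 3, 2, 7], [0, 16, 8, 6, 4, 2, 12], 39, true⟩) (lall (memL L) [4, 5, 9, 7, 3, 2, 4, 5, 3, 4, 7, 3, 2, 7, 3, 4, 5, 7, 3, 4, 7, 3, 7, 1, 9, 5, 4, 3, 2, 7]) = true := by decide +kernel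

theorem rot3_32 : T.rot 3 [2, 4, 5, 3, 4, 7, 3, 2, 7, 3, 4, 5, 7, 3, 4, 7, 3, 7, 1, 9, 5, 4, 3, 2, 7, 3, 4, 5, 9, 7] (sel (ones 12672) ip3 32) = true := by decide +kernel

theorem rot3_32r : band (Rule.ok (2 * 9) EX RL ⟨3 :: [2, 4, 5, 3, 4, 7, 3, 2, 7, 3, 4, 5, 7, 3, 4, 7, 3, 7, 1, 9, 5, 4, 3, 2, 7, 3, 4, 5, 9, 7], [0, 16, 8, 6, 4, 2, 12, 4, 6, 8, 16, 12], 39, true⟩) (lall (memL L) [2, 4, 5, 3, 4, 7, 3, 2, 7, 3, 4, 5, 7, 3, 4, 7, 3, 7, 1, 9, 5, 4, 3, 2, 7, 3, 4, 5, 9, 7]) = true := by decide +kernel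

theorem rot3_33 : T.rot 3 [4, 7, 3, 2, 7, 3, 4, 5, 7, 3, 4, 7, 3, 7, 1, 9, 5, 4, 3, 2, 7, 3, 4, 5, 9, 7, 3, 2, 4, 5] (sel (ones 12672) ip3 33) = true := by decide +kernel

theorem rot3_33r : band (Rule.ok (2 * 9) EX RL ⟨3 :: [4, 7, 3, 2, 7, 3, 4, 5, 7, 3, 4, 7, 3, 7, 1, 9, 5, 4, 3, 2, 7, 3, 4, 5, 9, 7, 3, 2, 4, 5], [12, 4, 12, 6, 4, 12, 8, 6, 4, 12, 2, 4, 12, 6, 4], 39, true⟩) (lall (memL L) [4, 7, 3, 2, 7, 3, 4, 5, 7, 3, 4, 7, 3, 7, 1, 9, 5, 4, 3, 2, 7, 3, 4, 5, 9, 7, 3, 2, 4, 5]) = true := by decide +kernel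

theorem rot3_34 : T.rot 3 [2, 7, 3, 4, 5, 7, 3, 4, 7, 3, 7, 1, 9, 5, 4, 3, 2, 7, 3, 4, 5, 9, 7, 3, 2, 4, 5, 3, 4, 7] (sel (ones 12672) ip3 34) = true := by decide +kernel

theorem rot3_34r : band (Rule.ok (2 * 9) EX RL ⟨3 :: [2, 7, 3, 4, 5, 7, 3, 4, 7, 3, 7, 1, 9, 5, 4, 3, 2, 7, 3, 4, 5, 9, 7, 3, 2, 4, 5, 3, 4, 7], [12, 4, 12, 6, 4, 12, 8, 6, 4, 12, 2, 4], 39, true⟩) (lall (memL L) [2, 7, 3, 4, 5, 7, 3, 4, 7, 3, 7, 1, 9, 5, 4, 3, 2, 7, 3, 4, 5, 9, 7, 3, 2, 4, 5, 3, 4, 7]) = true := by decide +kernel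

theorem rot3_35 : T.rot 3 [4, 5, 7, 3, 4, 7, 3, 7, 1, 9, 5, 4, 3, 2, 7, 3, 4, 5, 9, 7, 3, 2, 4, 5, 3, 4, 7, 3, 2, 7] (sel (ones 12672) ip3 35) = true := by decide +kernel

theorem rot3_35r : band (Rule.ok (2 * 9) EX RL ⟨3 :: [4, 5, 7, 3, 4, 7, 3, 7, 1, 9, 5, 4, 3, 2, 7, 3, 4, 5, 9, 7, 3, 2, 4, 5, 3, 4, 7, 3, 2, 7], [12, 4, 12, 6, 4, 12, 8, 6, 4], 39, true⟩) (lall (memL L) [4, 5, 7, 3, 4, 7, 3, 7, 1, 9, 5, 4, 3, 2, 7, 3, 4, 5, 9, 7, 3, 2, 4, 5, 3, 4, 7, 3, 2, 7]) = true := by decide +kernel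

theorem rot3_36 : T.rot 3 [4, 7, 3, 7, 1, 9, 5, 4, 3, 2, 7, 3, 4, 5, 9, 7, 3, 2, 4, 5, 3, 4, 7, 3, 2, 7, 3, 4, 5, 7] (sel (ones 12672) ip3 36) = true := by decide +kernel

theorem rot3_36r : band (Rule.ok (2 * 9) EX RL ⟨3 :: [4, 7, 3, 7, 1, 9, 5, 4, 3, 2, 7, 3, 4, 5, 9, 7, 3, 2, 4, 5, 3, 4, 7, 3, 2, 7, 3, 4, 5, 7], [12, 4, 12, 6, 4], 39, true⟩) (lall (memL L) [4, 7, 3, 7, 1, 9, 5, 4, 3, 2, 7, 3, 4, 5, 9, 7, 3, 2, 4, 5, 3, 4, 7, 3, 2, 7, 3, 4, 5, 7]) = true := by decide +kernel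

theorem rot3_37 : T.rot 3 [7, 1, 9, 5, 4, 3, 2, 7, 3, 4, 5, 9, 7, 3, 2, 4, 5, 3, 4, 7, 3, 2, 7, 3, 4, 5, 7, 3, 4, 7] (sel (ones 12672) ip3 37) = true := by decide +kernel

theorem rot3_37r : band (Rule.ok (2 * 9) EX RL ⟨3 :: [7, 1, 9, 5, 4, 3, 2, 7, 3, 4, 5, 9, 7, 3, 2, 4, 5, 3, 4, 7, 3, 2, 7, 3, 4, 5, 7, 3, 4, 7], [12, 4], 39, true⟩) (lall (memL L) [7, 1, 9, 5, 4, 3, 2, 7, 3, 4, 5, 9, 7, 3, 2, 4, 5, 3, 4, 7, 3, 2, 7, 3, 4, 5, 7, 3, 4, 7]) = true := by decide +kernel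

theorem rot3_38 : T.rot 3 [7, 4, 3, 7, 5, 4, 3, 7, 2, 3, 7, 4, 3, 5, 4, 2, 3, 7, 9, 5, 4, 3, 7, 2, 3, 4, 5, 9, 1, 7] (sel (ones 12672) ip3 38) = true := by decide +kernel

theorem rot3_38r : band (Rule.ok (2 * 9) EX RL ⟨3 :: [7, 4, 3, 7, 5, 4, 3, 7, 2, 3, 7, 4, 3, 5, 4, 2, 3, 7, 9, 5, 4, 3, 7, 2, 3, 4, 5, 9, 1, 7], [12], 39, false⟩) (lall (memL L) [7, 4, 3, 7, 5, 4, 3, 7, 2, 3, 7, 4, 3, 5, 4, 2, 3, 7, 9, 5, 4, 3, 7, 2, 3, 4, 5, 9, 1, 7]) = true := by decide +kernel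

theorem rot3_39 : T.rot 3 [7, 5, 4, 3, 7, 2, 3, 7, 4, 3, 5, 4, 2, 3, 7, 9, 5, 4, 3, 7, 2, 3, 4, 5, 9, 1, 7, 3, 7, 4] (sel (ones 12672) ip3 39) = true := by decide +kernel

theorem rot3_39r : band (Rule.ok (2 * 9) EX RL ⟨3 :: [7, 5, 4, 3, 7, 2, 3, 7, 4, 3, 5, 4, 2, 3, 7, 9, 5, 4, 3, 7, 2, 3, 4, 5, 9, 1, 7, 3, 7, 4], [12, 4, 12, 6], 39, false⟩) (lall (memL L) [7, 5, 4, 3, 7, 2, 3, 7, 4, 3, 5, 4, 2, 3, 7, 9, 5, 4, 3, 7, 2, 3, 4, 5, 9, 1, 7, 3, 7, 4]) = true := by decide +kernel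

theorem rot3_40 : T.rot 3 [7, 2, 3, 7, 4, 3, 5, 4, 2, 3, 7, 9, 5, 4, 3, 7, 2, 3, 4, 5, 9, 1, 7, 3, 7, 4, 3, 7, 5, 4] (sel (ones 12672) ip3 40) = true := by decide +kernel

theorem rot3_40r : band (Rule.ok (2 * 9) EX RL ⟨3 :: [7, 2, 3, 7, 4, 3, 5, 4, 2, 3, 7, 9, 5, 4, 3, 7, 2, 3, 4, 5, 9, 1, 7, 3, 7, 4, 3, 7, 5, 4], [12, 4, 12, 6, 4, 12, 8, 6], 39, false⟩) (lall (memL L) [7, 2, 3, 7, 4, 3, 5, 4, 2, 3, 7, 9, 5, 4, 3, 7, 2, 3, 4, 5, 9, 1, 7, 3, 7, 4, 3, 7, 5, 4]) = true := by decide +kernel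

theorem rot3_41 : T.rot 3 [7, 4, 3, 5, 4, 2, 3, 7, 9, 5, 4, 3, 7, 2, 3, 4, 5, 9, 1, 7, 3, 7, 4, 3, 7, 5, 4, 3, 7, 2] (sel (ones 12672) ip3 41) = true := by decide +kernel

theorem rot3_41r : band (Rule.ok (2 * 9) EX RL ⟨3 :: [7, 4, 3, 5, 4, 2, 3, 7, 9, 5, 4, 3, 7, 2, 3, 4, 5, 9, 1, 7, 3, 7, 4, 3, 7, 5, 4, 3, 7, 2], [12, 4, 12, 6, 4, 12, 8, 6, 4, 12, 2], 39, false⟩) (lall (memL L) [7, 4, 3, 5, 4, 2, 3, 7, 9, 5, 4, 3, 7, 2, 3, 4, 5, 9, 1, 7, 3, 7, 4, 3, 7, 5, 4, 3, 7, 2]) = true := by decide +kernel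

theorem rot3_42 : T.rot 3 [5, 4, 2, 3, 7, 9, 5, 4, 3, 7, 2, 3, 4, 5, 9, 1, 7, 3, 7, 4, 3, 7, 5, 4, 3, 7, 2, 3, 7, 4] (sel (ones 12672) ip3 42) = true := by decide +kernel

theorem rot3_42r : band (Rule.ok (2 * 9) EX RL ⟨3 :: [5, 4, 2, 3, 7, 9, 5, 4, 3, 7, 2, 3, 4, 5, 9, 1, 7, 3, 7, 4, 3, 7, 5, 4, 3, 7, 2, 3, 7, 4], [12, 4, 12, 6, 4, 12, 8, 6, 4, 12, 2, 4, 12, 6], 39, false⟩) (lall (memL L) [5, 4, 2, 3, 7, 9, 5, 4, 3, 7, 2, 3, 4, 5, 9, 1, 7, 3, 7, 4, 3, 7, 5, 4, 3, 7, 2, 3, 7, 4]) = true := by decide +kernel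

theorem rot3_43 : T.rot 3 [7, 9, 5, 4, 3, 7, 2, 3, 4, 5, 9, 1, 7, 3, 7, 4, 3, 7, 5, 4, 3, 7, 2, 3, 7, 4, 3, 5, 4, 2] (sel (ones 12672) ip3 43) = true := by decide +kernel

theorem rot3_43r : band (Rule.ok (2 * 9) EX RL ⟨3 :: [7, 9, 5, 4, 3, 7, 2, 3, 4, 5, 9, 1, 7, 3, 7, 4, 3, 7, 5, 4, 3, 7, 2, 3, 7, 4, 3, 5, 4, 2], [0, 16, 8, 6, 4, 2, 12, 4, 6, 8, 16, 12, 4], 39, false⟩) (lall (memL L) [7, 9, 5, 4, 3, 7, 2, 3, 4, 5, 9, 1, 7, 3, 7, 4, 3, 7, 5, 4, 3, 7, 2, 3, 7, 4, 3, 5, 4, 2]) = true := by decide +kernel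

theorem rot3_44 : T.rot 3 [7, 2, 3, 4, 5, 9, 1, 7, 3, 7, 4, 3, 7, 5, 4, 3, 7, 2, 3, 7, 4, 3, 5, 4, 2, 3, 7, 9, 5, 4] (sel (ones 12672) ip3 44) = true := by decide +kernel

theorem rot3_44r : band (Rule.ok (2 * 9) EX RL ⟨3 :: [7, 2, 3, 4, 5, 9, 1, 7, 3, 7, 4, 3, 7, 5, 4, 3, 7, 2, 3, 7, 4, 3, 5, 4, 2, 3, 7, 9, 5, 4], [0, 16, 8, 6, 4, 2, 12, 4], 39, false⟩) (lall (memL L) [7, 2, 3, 4, 5, 9, 1, 7, 3, 7, 4, 3, 7, 5, 4, 3, 7, 2, 3, 7, 4, 3, 5, 4, 2, 3, 7, 9, 5, 4]) = true := by decide +kernel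

theorem rot3_45 : T.rot 3 [4, 5, 9, 1, 7, 3, 7, 4, 3, 7, 5, 4, 3, 7, 2, 3, 7, 4, 3, 5, 4, 2, 3, 7, 9, 5, 4, 3, 7, 2] (sel (ones 12672) ip3 45) = true := by decide +kernel

theorem rot3_45r : band (Rule.ok (2 * 9) EX RL ⟨3 :: [4, 5, 9, 1, 7, 3, 7, 4, 3, 7, 5, 4, 3, 7, 2, 3, 7, 4, 3, 5, 4, 2, 3, 7, 9, 5, 4, 3, 7, 2], [0, 16, 8, 6, 4], 39, false⟩) (lall (memL L) [4, 5, 9, 1, 7, 3, 7, 4, 3, 7, 5, 4, 3, 7, 2, 3, 7, 4, 3, 5, 4, 2, 3, 7, 9, 5, 4, 3, 7, 2]) = true := by decide +kernel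

theorem rot3_46 : T.rot 3 [7, 8, 2, 6, 5, 4, 3, 7, 8, 2, 6, 5, 4, 3, 7, 8, 2, 6, 5, 4, 3, 7, 8, 2, 6, 5, 4, 3, 7, 8, 2, 6, 5, 4, 3, 7, 8, 2, 6, 5, 4, 3, 7, 8, 2, 6, 5, 4, 3, 7, 8, 2, 6, 5, 4, 3, 7, 8, 2, 6, 5, 4] (sel (ones 12672) ip3 46) = true := by decide +kernel

theorem rot3_46r : band (Rule.ok (2 * 9) EX RL ⟨3 :: [7, 8, 2, 6, 5, 4, 3, 7, 8, 2, 6, 5, 4, 3, 7, 8, 2, 6, 5, 4, 3, 7, 8, 2, 6, 5, 4, 3, 7, 8, 2, 6, 5, 4, 3, 7, 8, 2, 6, 5, 4, 3, 7, 8, 2, 6, 5, 4, 3, 7, 8, 2, 6, 5, 4, 3, 7, 8, 2, 6, 5, 4], [14, 12, 4], 36, true⟩) (lall (memL L) [7, 8, 2, 6, 5, 4, 3, 7, 8, 2, 6, 5, 4, 3, 7, 8, 2, 6, 5, 4, 3, 7, 8, 2, 6, 5, 4, 3, 7, 8, 2, 6, 5, 4, 3, 7, 8, 2, 6, 5, 4, 3, 7, 8, 2, 6, 5, 4, 3, 7, 8, 2, 6, 5, 4, 3, 7, 8, 2, 6, 5, 4]) = true := by decide +kernel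

theorem rot3_47 : T.rot 3 [4, 5, 6, 2, 8, 7, 3, 4, 5, 6, 2, 8, 7, 3, 4, 5, 6, 2, 8, 7, 3, 4, 5, 6, 2, 8, 7, 3, 4, 5, 6, 2, 8, 7, 3, 4, 5, 6, 2, 8, 7, 3, 4, 5, 6, 2, 8, 7, 3, 4, 5, 6, 2, 8, 7, 3, 4, 5, 6, 2, 8, 7] (sel (ones 12672) ip3 47) = true := by decide +kernel

theorem rot3_47r : band (Rule.ok (2 * 9) EX RL ⟨3 :: [4, 5, 6, 2, 8, 7, 3, 4, 5, 6, 2, 8, 7, 3, 4, 5, 6, 2, 8, 7, 3, 4, 5, 6, 2, 8, 7, 3, 4, 5, 6, 2, 8, 7, 3, 4, 5, 6, 2, 8, 7, 3, 4, 5, 6, 2, 8, 7, 3, 4, 5, 6, 2, 8, 7, 3, 4, 5, 6, 2, 8, 7], [14, 12], 36, false⟩) (lall (memL L) [4, 5, 6, 2, 8, 7, 3, 4, 5, 6, 2, 8, 7, 3, 4, 5, 6, 2, 8, 7, 3, 4, 5, 6, 2, 8, 7, 3, 4, 5, 6, 2, 8, 7, 3, 4, 5, 6, 2, 8, 7, 3, 4, 5, 6, 2, 8, 7, 3, 4, 5, 6, 2, 8, 7, 3, 4, 5, 6, 2, 8, 7]) = true := by decide +kernel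

theorem cov3 : T.cover 3 [(sel (ones 12672) ip3 1), (sel (ones 12672) ip3 2), (sel (ones 12672) ip3 3), (sel (ones 12672) ip3 4), (sel (ones 12672) ip3 5), (sel (ones 12672) ip3 6), (sel (ones 12672) ip3 7), (sel (ones 12672) ip3 8), (sel (ones 12672) ip3 9), (sel (ones 12672) ip3 10), (sel (ones 12672) ip3 11), (sel (ones 12672) ip3 12), (sel (ones 12672) ip3 13), (sel (ones 12672) ip3 14), (sel (ones 12672) ip3 15), (sel (ones 12672) ip3 16), (sel (ones 12672) ip3 17), (sel (ones 12672) ip3 18), (sel (ones 12672) ip3 19), (sel (ones 12672) ip3 20), (sel (ones 12672) ip3 21), (sel (ones 12672) ip3 22), (sel (ones 12672) ip3 23), (sel (ones 12672) ip3 24), (sel (ones 12672) ip3 25), (sel (ones 12672) ip3 26), (sel (ones 12672) ip3 27), (sel (ones 12672) ip3 28), (sel (ones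 12672) ip3 29), (sel (ones 12672) ip3 30), (sel (ones 12672) ip3 31), (sel (ones 12672) ip3 32), (sel (ones 12672) ip3 33), (sel (ones 12672) ip3 34), (sel (ones 12672) ip3 35), (sel (ones 12672) ip3 36), (sel (ones 12672) ip3 37), (sel (ones 12672) ip3 38), (sel (ones 12672) ip3 39), (sel (ones 12672) ip3 40), (sel (ones 12672) ip3 41), (sel (ones 12672) ip3 42), (sel (ones 12672) ip3 43), (sel (ones 12672) ip3 44), (sel (ones 12672) ip3 45), (sel (ones 12672) ip3 46), (sel (ones 12672) ip3 47), 1] = true := by decide +kernel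

theorem tl3 : T.treeLt 14 3 = true := by decide +kernel

theorem rot4_1 : T.rot 4 [4] (sel (ones 12672) ip4 1) = true := by decide +kernel

theorem rot4_1r : band (Rule.ok (2 * 9) EX RL ⟨4 :: [4], [], 40, false⟩) (lall (memL L) [4]) = true := by decide +kernel

theorem rot4_2 : T.rot 4 [2, 4, 2] (sel (ones 12672) ip4 2) = true := by decide +kernel

theorem rot4_2r : band (Rule.ok (2 * 9) EX RL ⟨4 :: [2, 4, 2], [], 1, true⟩) (lall (memL L) [2, 4, 2]) = true := by decide +kernel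

theorem rot4_3 : T.rot 4 [6, 4, 6] (sel (ones 12672) ip4 3) = true := by decide +kernel

theorem rot4_3r : band (Rule.ok (2 * 9) EX RL ⟨4 :: [6, 4, 6], [], 14, false⟩) (lall (memL L) [6, 4, 6]) = true := by decide +kernel

theorem rot4_4 : T.rot 4 [7, 4, 7] (sel (ones 12672) ip4 4) = true := by decide +kernel

theorem rot4_4r : band (Rule.ok (2 * 9) EX RL ⟨4 :: [7, 4, 7], [], 15, false⟩) (lall (memL L) [7, 4, 7]) = true := by decide +kernel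

theorem rot4_5 : T.rot 4 [8, 4, 8] (sel (ones 12672) ip4 5) = true := by decide +kernel

theorem rot4_5r : band (Rule.ok (2 * 9) EX RL ⟨4 :: [8, 4, 8], [], 16, false⟩) (lall (memL L) [8, 4, 8]) = true := by decide +kernel

theorem rot4_6 : T.rot 4 [9, 4, 9] (sel (ones 12672) ip4 6) = true := by decide +kernel

theorem rot4_6r : band (Rule.ok (2 * 9) EX RL ⟨4 :: [9, 4, 9], [], 17, false⟩) (lall (memL L) [9, 4, 9]) = true := by decide +kernel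

theorem rot4_7 : T.rot 4 [1, 4, 1] (sel (ones 12672) ip4 7) = true := by decide +kernel

theorem rot4_7r : band (Rule.ok (2 * 9) EX RL ⟨4 :: [1, 4, 1], [], 30, true⟩) (lall (memL L) [1, 4, 1]) = true := by decide +kernel

theorem rot4_8 : T.rot 4 [3, 4, 3, 4, 3] (sel (ones 12672) ip4 8) = true := by decide +kernel

theorem rot4_8r : band (Rule.ok (2 * 9) EX RL ⟨4 :: [3, 4, 3, 4, 3], [], 7, true⟩) (lall (memL L) [3, 4, 3, 4, 3]) = true := by decide +kernel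

theorem rot4_9 : T.rot 4 [5, 4, 5, 4, 5] (sel (ones 12672) ip4 9) = true := by decide +kernel

theorem rot4_9r : band (Rule.ok (2 * 9) EX RL ⟨4 :: [5, 4, 5, 4, 5], [], 13, false⟩) (lall (memL L) [5, 4, 5, 4, 5]) = true := by decide +kernel

theorem rot4_10 : T.rot 4 [3, 8, 7, 9, 5, 8, 9, 4, 3, 7, 8, 5, 9, 4, 5, 3, 4, 7, 3, 8, 7, 9, 5] (sel (ones 12672) ip4 10) = true := by decide +kernel

theorem rot4_10r : band (Rule.ok (2 * 9) EX RL ⟨4 :: [3, 8, 7, 9, 5, 8, 9, 4, 3, 7, 8, 5, 9, 4, 5, 3, 4, 7, 3, 8, 7, 9, 5], [16, 8], 37, true⟩) (lall (memL L) [3, 8, 7, 9, 5, 8, 9, 4, 3, 7, 8, 5, 9, 4, 5, 3, 4, 7, 3, 8, 7, 9, 5]) = true := by decide +kernel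

theorem rot4_11 : T.rot 4 [3, 7, 8, 5, 9, 4, 5, 3, 4, 7, 3, 8, 7, 9, 5, 4, 3, 8, 7, 9, 5, 8, 9] (sel (ones 12672) ip4 11) = true := by decide +kernel

theorem rot4_11r : band (Rule.ok (2 * 9) EX RL ⟨4 :: [3, 7, 8, 5, 9, 4, 5, 3, 4, 7, 3, 8, 7, 9, 5, 4, 3, 8, 7, 9, 5, 8, 9], [16, 8, 6, 4, 14, 12, 16, 8, 14, 16], 37, true⟩) (lall (memL L) [3, 7, 8, 5, 9, 4, 5, 3, 4, 7, 3, 8, 7, 9, 5, 4, 3, 8, 7, 9, 5, 8, 9]) = true := by decide +kernel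

theorem rot4_12 : T.rot 4 [5, 3, 4, 7, 3, 8, 7, 9, 5, 4, 3, 8, 7, 9, 5, 8, 9, 4, 3, 7, 8, 5, 9] (sel (ones 12672) ip4 12) = true := by decide +kernel

theorem rot4_12r : band (Rule.ok (2 * 9) EX RL ⟨4 :: [5, 3, 4, 7, 3, 8, 7, 9, 5, 4, 3, 8, 7, 9, 5, 8, 9, 4, 3, 7, 8, 5, 9], [12, 14, 4, 12, 6, 4, 8, 6], 37, true⟩) (lall (memL L) [5, 3, 4, 7, 3, 8, 7, 9, 5, 4, 3, 8, 7, 9, 5, 8, 9, 4, 3, 7, 8, 5, 9]) = true := by decide +kernel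

theorem rot4_13 : T.rot 4 [7, 3, 8, 7, 9, 5, 4, 3, 8, 7, 9, 5, 8, 9, 4, 3, 7, 8, 5, 9, 4, 5, 3] (sel (ones 12672) ip4 13) = true := by decide +kernel

theorem rot4_13r : band (Rule.ok (2 * 9) EX RL ⟨4 :: [7, 3, 8, 7, 9, 5, 4, 3, 8, 7, 9, 5, 8, 9, 4, 3, 7, 8, 5, 9, 4, 5, 3], [12, 14, 4, 12, 6], 37, true⟩) (lall (memL L) [7, 3, 8, 7, 9, 5, 4, 3, 8, 7, 9, 5, 8, 9, 4, 3, 7, 8, 5, 9, 4, 5, 3]) = true := by decide +kernel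

theorem rot4_14 : T.rot 4 [3, 5, 4, 9, 5, 8, 7, 3, 4, 9, 8, 5, 9, 7, 8, 3, 4, 5, 9, 7, 8, 3, 7] (sel (ones 12672) ip4 14) = true := by decide +kernel

theorem rot4_14r : band (Rule.ok (2 * 9) EX RL ⟨4 :: [3, 5, 4, 9, 5, 8, 7, 3, 4, 9, 8, 5, 9, 7, 8, 3, 4, 5, 9, 7, 8, 3, 7], [12, 14, 4, 12], 37, false⟩) (lall (memL L) [3, 5, 4, 9, 5, 8, 7, 3, 4, 9, 8, 5, 9, 7, 8, 3, 4, 5, 9, 7, 8, 3, 7]) = true := by decide +kernel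

theorem rot4_15 : T.rot 4 [9, 5, 8, 7, 3, 4, 9, 8, 5, 9, 7, 8, 3, 4, 5, 9, 7, 8, 3, 7, 4, 3, 5] (sel (ones 12672) ip4 15) = true := by decide +kernel

theorem rot4_15r : band (Rule.ok (2 * 9) EX RL ⟨4 :: [9, 5, 8, 7, 3, 4, 9, 8, 5, 9, 7, 8, 3, 4, 5, 9, 7, 8, 3, 7, 4, 3, 5], [12, 14, 4, 12, 6, 4, 8], 37, false⟩) (lall (memL L) [9, 5, 8, 7, 3, 4, 9, 8, 5, 9, 7, 8, 3, 4, 5, 9, 7, 8, 3, 7, 4, 3, 5]) = true := by decide +kernel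

theorem rot4_16 : T.rot 4 [9, 8, 5, 9, 7, 8, 3, 4, 5, 9, 7, 8, 3, 7, 4, 3, 5, 4, 9, 5, 8, 7, 3] (sel (ones 12672) ip4 16) = true := by decide +kernel

theorem rot4_16r : band (Rule.ok (2 * 9) EX RL ⟨4 :: [9, 8, 5, 9, 7, 8, 3, 4, 5, 9, 7, 8, 3, 7, 4, 3, 5, 4, 9, 5, 8, 7, 3], [16, 8, 6, 4, 14, 12, 16, 8, 14, 16, 6], 37, false⟩) (lall (memL L) [9, 8, 5, 9, 7, 8, 3, 4, 5, 9, 7, 8, 3, 7, 4, 3, 5, 4, 9, 5, 8, 7, 3]) = true := by decide +kernel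

theorem rot4_17 : T.rot 4 [5, 9, 7, 8, 3, 7, 4, 3, 5, 4, 9, 5, 8, 7, 3, 4, 9, 8, 5, 9, 7, 8, 3] (sel (ones 12672) ip4 17) = true := by decide +kernel

theorem rot4_17r : band (Rule.ok (2 * 9) EX RL ⟨4 :: [5, 9, 7, 8, 3, 7, 4, 3, 5, 4, 9, 5, 8, 7, 3, 4, 9, 8, 5, 9, 7, 8, 3], [16, 8, 6], 37, false⟩) (lall (memL L) [5, 9, 7, 8, 3, 7, 4, 3, 5, 4, 9, 5, 8, 7, 3, 4, 9, 8, 5, 9, 7, 8, 3]) = true := by decide +kernel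

theorem rot4_18 : T.rot 4 [3, 6, 5, 4, 7, 9, 5, 6, 3, 4, 5, 9, 7, 3, 4, 5, 6, 7, 3, 4, 5, 7, 3, 4, 7, 3, 7, 9, 5] (sel (ones 12672) ip4 18) = true := by decide +kernel

theorem rot4_18r : band (Rule.ok (2 * 9) EX RL ⟨4 :: [3, 6, 5, 4, 7, 9, 5, 6, 3, 4, 5, 9, 7, 3, 4, 5, 6, 7, 3, 4, 5, 7, 3, 4, 7, 3, 7, 9, 5], [16, 8], 38, true⟩) (lall (memL L) [3, 6, 5, 4, 7, 9, 5, 6, 3, 4, 5, 9, 7, 3, 4, 5, 6, 7, 3, 4, 5, 7, 3, 4, 7, 3, 7, 9, 5]) = true := by decide +kernel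

theorem rot4_19 : T.rot 4 [7, 9, 5, 6, 3, 4, 5, 9, 7, 3, 4, 5, 6, 7, 3, 4, 5, 7, 3, 4, 7, 3, 7, 9, 5, 4, 3, 6, 5] (sel (ones 12672) ip4 19) = true := by decide +kernel

theorem rot4_19r : band (Rule.ok (2 * 9) EX RL ⟨4 :: [7, 9, 5, 6, 3, 4, 5, 9, 7, 3, 4, 5, 6, 7, 3, 4, 5, 7, 3, 4, 7, 3, 7, 9, 5, 4, 3, 6, 5], [16, 8, 6, 4, 10, 8], 38, true⟩) (lall (memL L) [7, 9, 5, 6, 3, 4, 5, 9, 7, 3, 4, 5, 6, 7, 3, 4, 5, 7, 3, 4, 7, 3, 7, 9, 5, 4, 3, 6, 5]) = true := by decide +kernel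

theorem rot4_20 : T.rot 4 [5, 9, 7, 3, 4, 5, 6, 7, 3, 4, 5, 7, 3, 4, 7, 3, 7, 9, 5, 4, 3, 6, 5, 4, 7, 9, 5, 6, 3] (sel (ones 12672) ip4 20) = true := by decide +kernel

theorem rot4_20r : band (Rule.ok (2 * 9) EX RL ⟨4 :: [5, 9, 7, 3, 4, 5, 6, 7, 3, 4, 5, 7, 3, 4, 7, 3, 7, 9, 5, 4, 3, 6, 5, 4, 7, 9, 5, 6, 3], [16, 8, 6, 4, 10, 8, 6, 12, 16, 8, 10, 4], 38, true⟩) (lall (memL L) [5, 9, 7, 3, 4, 5, 6, 7, 3, 4, 5, 7, 3, 4, 7, 3, 7, 9, 5, 4, 3, 6, 5, 4, 7, 9, 5, 6, 3]) = true := by decide +kernel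

theorem rot4_21 : T.rot 4 [5, 6, 7, 3, 4, 5, 7, 3, 4, 7, 3, 7, 9, 5, 4, 3, 6, 5, 4, 7, 9, 5, 6, 3, 4, 5, 9, 7, 3] (sel (ones 12672) ip4 21) = true := by decide +kernel

theorem rot4_21r : band (Rule.ok (2 * 9) EX RL ⟨4 :: [5, 6, 7, 3, 4, 5, 7, 3, 4, 7, 3, 7, 9, 5, 4, 3, 6, 5, 4, 7, 9, 5, 6, 3, 4, 5, 9, 7, 3], [12, 4, 12, 6, 4, 12, 8, 6, 4, 12, 10, 8, 6], 38, true⟩) (lall (memL L) [5, 6, 7, 3, 4, 5, 7, 3, 4, 7, 3, 7, 9, 5, 4, 3, 6, 5, 4, 7, 9, 5, 6, 3, 4, 5, 9, 7, 3]) = true := by decide +kernel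

theorem rot4_22 : T.rot 4 [5, 7, 3, 4, 7, 3, 7, 9, 5, 4, 3, 6, 5, 4, 7, 9, 5, 6, 3, 4, 5, 9, 7, 3, 4, 5, 6, 7, 3] (sel (ones 12672) ip4 22) = true := by decide +kernel

theorem rot4_22r : band (Rule.ok (2 * 9) EX RL ⟨4 :: [5, 7, 3, 4, 7, 3, 7, 9, 5, 4, 3, 6, 5, 4, 7, 9, 5, 6, 3, 4, 5, 9, 7, 3, 4, 5, 6, 7, 3], [12, 4, 12, 6, 4, 12, 8, 6], 38, true⟩) (lall (memL L) [5, 7, 3, 4, 7, 3, 7, 9, 5, 4, 3, 6, 5, 4, 7, 9, 5, 6, 3, 4, 5, 9, 7, 3, 4, 5, 6, 7, 3]) = true := by decide +kernel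

theorem rot4_23 : T.rot 4 [7, 3, 7, 9, 5, 4, 3, 6, 5, 4, 7, 9, 5, 6, 3, 4, 5, 9, 7, 3, 4, 5, 6, 7, 3, 4, 5, 7, 3] (sel (ones 12672) ip4 23) = true := by decide +kernel

theorem rot4_23r : band (Rule.ok (2 * 9) EX RL ⟨4 :: [7, 3, 7, 9, 5, 4, 3, 6, 5, 4, 7, 9, 5, 6, 3, 4, 5, 9, 7, 3, 4, 5, 6, 7, 3, 4, 5, 7, 3], [12, 4, 12, 6], 38, true⟩) (lall (memL L) [7, 3, 7, 9, 5, 4, 3, 6, 5, 4, 7, 9, 5, 6, 3, 4, 5, 9, 7, 3, 4, 5, 6, 7, 3, 4, 5, 7, 3]) = true := by decide +kernel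

theorem rot4_24 : T.rot 4 [3, 7, 5, 4, 3, 7, 6, 5, 4, 3, 7, 9, 5, 4, 3, 6, 5, 9, 7, 4, 5, 6, 3, 4, 5, 9, 7, 3, 7] (sel (ones 12672) ip4 24) = true := by decide +kernel

theorem rot4_24r : band (Rule.ok (2 * 9) EX RL ⟨4 :: [3, 7, 5, 4, 3, 7, 6, 5, 4, 3, 7, 9, 5, 4, 3, 6, 5, 9, 7, 4, 5, 6, 3, 4, 5, 9, 7, 3, 7], [12, 4, 12], 38, false⟩) (lall (memL L) [3, 7, 5, 4, 3, 7, 6, 5, 4, 3, 7, 9, 5, 4, 3, 6, 5, 9, 7, 4, 5, 6, 3, 4, 5, 9, 7, 3, 7]) = true := by decide +kernel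

theorem rot4_25 : T.rot 4 [3, 7, 6, 5, 4, 3, 7, 9, 5, 4, 3, 6, 5, 9, 7, 4, 5, 6, 3, 4, 5, 9, 7, 3, 7, 4, 3, 7, 5] (sel (ones 12672) ip4 25) = true := by decide +kernel

theorem rot4_25r : band (Rule.ok (2 * 9) EX RL ⟨4 :: [3, 7, 6, 5, 4, 3, 7, 9, 5, 4, 3, 6, 5, 9, 7, 4, 5, 6, 3, 4, 5, 9, 7, 3, 7, 4, 3, 7, 5], [12, 4, 12, 6, 4, 12, 8], 38, false⟩) (lall (memL L) [3, 7, 6, 5, 4, 3, 7, 9, 5, 4, 3, 6, 5, 9, 7, 4, 5, 6, 3, 4, 5, 9, 7, 3, 7, 4, 3, 7, 5]) = true := by decide +kernel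

theorem rot4_26 : T.rot 4 [3, 7, 9, 5, 4, 3, 6, 5, 9, 7, 4, 5, 6, 3, 4, 5, 9, 7, 3, 7, 4, 3, 7, 5, 4, 3, 7, 6, 5] (sel (ones 12672) ip4 26) = true := by decide +kernel

theorem rot4_26r : band (Rule.ok (2 * 9) EX RL ⟨4 :: [3, 7, 9, 5, 4, 3, 6, 5, 9, 7, 4, 5, 6, 3, 4, 5, 9, 7, 3, 7, 4, 3, 7, 5, 4, 3, 7, 6, 5], [12, 4, 12, 6, 4, 12, 8, 6, 4, 12, 10, 8], 38, false⟩) (lall (memL L) [3, 7, 9, 5, 4, 3, 6, 5, 9, 7, 4, 5, 6, 3, 4, 5, 9, 7, 3, 7, 4, 3, 7, 5, 4, 3, 7, 6, 5]) = true := by decide +kernel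

theorem rot4_27 : T.rot 4 [3, 6, 5, 9, 7, 4, 5, 6, 3, 4, 5, 9, 7, 3, 7, 4, 3, 7, 5, 4, 3, 7, 6, 5, 4, 3, 7, 9, 5] (sel (ones 12672) ip4 27) = true := by decide +kernel

theorem rot4_27r : band (Rule.ok (2 * 9) EX RL ⟨4 :: [3, 6, 5, 9, 7, 4, 5, 6, 3, 4, 5, 9, 7, 3, 7, 4, 3, 7, 5, 4, 3, 7, 6, 5, 4, 3, 7, 9, 5], [16, 8, 6, 4, 10, 8, 6, 12, 16, 8, 10, 4, 6], 38, false⟩) (lall (memL L) [3, 6, 5, 9, 7, 4, 5, 6, 3, 4, 5, 9, 7, 3, 7, 4, 3, 7, 5, 4, 3, 7, 6, 5, 4, 3, 7, 9, 5]) = true := by decide +kernel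

theorem rot4_28 : T.rot 4 [5, 6, 3, 4, 5, 9, 7, 3, 7, 4, 3, 7, 5, 4, 3, 7, 6, 5, 4, 3, 7, 9, 5, 4, 3, 6, 5, 9, 7] (sel (ones 12672) ip4 28) = true := by decide +kernel

theorem rot4_28r : band (Rule.ok (2 * 9) EX RL ⟨4 :: [5, 6, 3, 4, 5, 9, 7, 3, 7, 4, 3, 7, 5, 4, 3, 7, 6, 5, 4, 3, 7, 9, 5, 4, 3, 6, 5, 9, 7], [16, 8, 6, 4, 10, 8, 6], 38, false⟩) (lall (memL L) [5, 6, 3, 4, 5, 9, 7, 3, 7, 4, 3, 7, 5, 4, 3, 7, 6, 5, 4, 3, 7, 9, 5, 4, 3, 6, 5, 9, 7]) = true := by decide +kernel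

theorem rot4_29 : T.rot 4 [5, 9, 7, 3, 7, 4, 3, 7, 5, 4, 3, 7, 6, 5, 4, 3, 7, 9, 5, 4, 3, 6, 5, 9, 7, 4, 5, 6, 3] (sel (ones 12672) ip4 29) = true := by decide +kernel

theorem rot4_29r : band (Rule.ok (2 * 9) EX RL ⟨4 :: [5, 9, 7, 3, 7, 4, 3, 7, 5, 4, 3, 7, 6, 5, 4, 3, 7, 9, 5, 4, 3, 6, 5, 9, 7, 4, 5, 6, 3], [16, 8, 6], 38, false⟩) (lall (memL L) [5, 9, 7, 3, 7, 4, 3, 7, 5, 4, 3, 7, 6, 5, 4, 3, 7, 9, 5, 4, 3, 6, 5, 9, 7, 4, 5, 6, 3]) = true := by decide +kernel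

theorem rot4_30 : T.rot 4 [3, 2, 7, 3, 4, 5, 9, 7, 3, 2, 4, 5, 3, 4, 7, 3, 2, 7, 3, 4, 5, 7, 3, 4, 7, 3, 7, 1, 9, 5] (sel (ones 12672) ip4 30) = true := by decide +kernel

theorem rot4_30r : band (Rule.ok (2 * 9) EX RL ⟨4 :: [3, 2, 7, 3, 4, 5, 9, 7, 3, 2, 4, 5, 3, 4, 7, 3, 2, 7, 3, 4, 5, 7, 3, 4, 7, 3, 7, 1, 9, 5], [0, 16, 8], 39, true⟩) (lall (memL L) [3, 2, 7, 3, 4, 5, 9, 7, 3, 2, 4, 5, 3, 4, 7, 3, 2, 7, 3, 4, 5, 7, 3, 4, 7, 3, 7, 1, 9, 5]) = true := by decide +kernel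

theorem rot4_31 : T.rot 4 [5, 9, 7, 3, 2, 4, 5, 3, 4, 7, 3, 2, 7, 3, 4, 5, 7, 3, 4, 7, 3, 7, 1, 9, 5, 4, 3, 2, 7, 3] (sel (ones 12672) ip4 31) = true := by decide +kernel

theorem rot4_31r : band (Rule.ok (2 * 9) EX RL ⟨4 :: [5, 9, 7, 3, 2, 4, 5, 3, 4, 7, 3, 2, 7, 3, 4, 5, 7, 3, 4, 7, 3, 7, 1, 9, 5, 4, 3, 2, 7, 3], [0, 16, 8, 6, 4, 2, 12, 4], 39, true⟩) (lall (memL L) [5, 9, 7, 3, 2, 4, 5, 3, 4, 7, 3, 2, 7, 3, 4, 5, 7, 3, 4, 7, 3, 7, 1, 9, 5, 4, 3, 2, 7, 3]) = true := by decide +kernel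

theorem rot4_32 : T.rot 4 [5, 3, 4, 7, 3, 2, 7, 3, 4, 5, 7, 3, 4, 7, 3, 7, 1, 9, 5, 4, 3, 2, 7, 3, 4, 5, 9, 7, 3, 2] (sel (ones 12672) ip4 32) = true := by decide +kernel

theorem rot4_32r : band (Rule.ok (2 * 9) EX RL ⟨4 :: [5, 3, 4, 7, 3, 2, 7, 3, 4, 5, 7, 3, 4, 7, 3, 7, 1, 9, 5, 4, 3, 2, 7, 3, 4, 5, 9, 7, 3, 2], [0, 16, 8, 6, 4, 2, 12, 4, 6, 8, 16, 12, 4, 2], 39, true⟩) (lall (memL L) [5, 3, 4, 7, 3, 2, 7, 3, 4, 5, 7, 3, 4, 7, 3, 7, 1, 9, 5, 4, 3, 2, 7, 3, 4, 5, 9, 7, 3, 2]) = true := by decide +kernel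

theorem rot4_33 : T.rot 4 [7, 3, 2, 7, 3, 4, 5, 7, 3, 4, 7, 3, 7, 1, 9, 5, 4, 3, 2, 7, 3, 4, 5, 9, 7, 3, 2, 4, 5, 3] (sel (ones 12672) ip4 33) = true := by decide +kernel

theorem rot4_33r : band (Rule.ok (2 * 9) EX RL ⟨4 :: [7, 3, 2, 7, 3, 4, 5, 7, 3, 4, 7, 3, 7, 1, 9, 5, 4, 3, 2, 7, 3, 4, 5, 9, 7, 3, 2, 4, 5, 3], [12, 4, 12, 6, 4, 12, 8, 6, 4, 12, 2, 4, 12, 6], 39, true⟩) (lall (memL L) [7, 3, 2, 7, 3, 4, 5, 7, 3, 4, 7, 3, 7, 1, 9, 5, 4, 3, 2, 7, 3, 4, 5, 9, 7, 3, 2, 4, 5, 3]) = true := by decide +kernel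

theorem rot4_34 : T.rot 4 [5, 7, 3, 4, 7, 3, 7, 1, 9, 5, 4, 3, 2, 7, 3, 4, 5, 9, 7, 3, 2, 4, 5, 3, 4, 7, 3, 2, 7, 3] (sel (ones 12672) ip4 34) = true := by decide +kernel

theorem rot4_34r : band (Rule.ok (2 * 9) EX RL ⟨4 :: [5, 7, 3, 4, 7, 3, 7, 1, 9, 5, 4, 3, 2, 7, 3, 4, 5, 9, 7, 3, 2, 4, 5, 3, 4, 7, 3, 2, 7, 3], [12, 4, 12, 6, 4, 12, 8, 6], 39, true⟩) (lall (memL L) [5, 7, 3, 4, 7, 3, 7, 1, 9, 5, 4, 3, 2, 7, 3, 4, 5, 9, 7, 3, 2, 4, 5, 3, 4, 7, 3, 2, 7, 3]) = true := by decide +kernel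

theorem rot4_35 : T.rot 4 [7, 3, 7, 1, 9, 5, 4, 3, 2, 7, 3, 4, 5, 9, 7, 3, 2, 4, 5, 3, 4, 7, 3, 2, 7, 3, 4, 5, 7, 3] (sel (ones 12672) ip4 35) = true := by decide +kernel

theorem rot4_35r : band (Rule.ok (2 * 9) EX RL ⟨4 :: [7, 3, 7, 1, 9, 5, 4, 3, 2, 7, 3, 4, 5, 9, 7, 3, 2, 4, 5, 3, 4, 7, 3, 2, 7, 3, 4, 5, 7, 3], [12, 4, 12, 6], 39, true⟩) (lall (memL L) [7, 3, 7, 1, 9, 5, 4, 3, 2, 7, 3, 4, 5, 9, 7, 3, 2, 4, 5, 3, 4, 7, 3, 2, 7, 3, 4, 5, 7, 3]) = true := by decide +kernel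

theorem rot4_36 : T.rot 4 [3, 7, 5, 4, 3, 7, 2, 3, 7, 4, 3, 5, 4, 2, 3, 7, 9, 5, 4, 3, 7, 2, 3, 4, 5, 9, 1, 7, 3, 7] (sel (ones 12672) ip4 36) = true := by decide +kernel

theorem rot4_36r : band (Rule.ok (2 * 9) EX RL ⟨4 :: [3, 7, 5, 4, 3, 7, 2, 3, 7, 4, 3, 5, 4, 2, 3, 7, 9, 5, 4, 3, 7, 2, 3, 4, 5, 9, 1, 7, 3, 7], [12, 4, 12], 39, false⟩) (lall (memL L) [3, 7, 5, 4, 3, 7, 2, 3, 7, 4, 3, 5, 4, 2, 3, 7, 9, 5, 4, 3, 7, 2, 3, 4, 5, 9, 1, 7, 3, 7]) = true := by decide +kernel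

theorem rot4_37 : T.rot 4 [3, 7, 2, 3, 7, 4, 3, 5, 4, 2, 3, 7, 9, 5, 4, 3, 7, 2, 3, 4, 5, 9, 1, 7, 3, 7, 4, 3, 7, 5] (sel (ones 12672) ip4 37) = true := by decide +kernel

theorem rot4_37r : band (Rule.ok (2 * 9) EX RL ⟨4 :: [3, 7, 2, 3, 7, 4, 3, 5, 4, 2, 3, 7, 9, 5, 4, 3, 7, 2, 3, 4, 5, 9, 1, 7, 3, 7, 4, 3, 7, 5], [12, 4, 12, 6, 4, 12, 8], 39, false⟩) (lall (memL L) [3, 7, 2, 3, 7, 4, 3, 5, 4, 2, 3, 7, 9, 5, 4, 3, 7, 2, 3, 4, 5, 9, 1, 7, 3, 7, 4, 3, 7, 5]) = true := by decide +kernel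

theorem rot4_38 : T.rot 4 [3, 5, 4, 2, 3, 7, 9, 5, 4, 3, 7, 2, 3, 4, 5, 9, 1, 7, 3, 7, 4, 3, 7, 5, 4, 3, 7, 2, 3, 7] (sel (ones 12672) ip4 38) = true := by decide +kernel

theorem rot4_38r : band (Rule.ok (2 * 9) EX RL ⟨4 :: [3, 5, 4, 2, 3, 7, 9, 5, 4, 3, 7, 2, 3, 4, 5, 9, 1, 7, 3, 7, 4, 3, 7, 5, 4, 3, 7, 2, 3, 7], [12, 4, 12, 6, 4, 12, 8, 6, 4, 12, 2, 4, 12], 39, false⟩) (lall (memL L) [3, 5, 4, 2, 3, 7, 9, 5, 4, 3, 7, 2, 3, 4, 5, 9, 1, 7, 3, 7, 4, 3, 7, 5, 4, 3, 7, 2, 3, 7]) = true := by decide +kernel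

theorem rot4_39 : T.rot 4 [2, 3, 7, 9, 5, 4, 3, 7, 2, 3, 4, 5, 9, 1, 7, 3, 7, 4, 3, 7, 5, 4, 3, 7, 2, 3, 7, 4, 3, 5] (sel (ones 12672) ip4 39) = true := by decide +kernel

theorem rot4_39r : band (Rule.ok (2 * 9) EX RL ⟨4 :: [2, 3, 7, 9, 5, 4, 3, 7, 2, 3, 4, 5, 9, 1, 7, 3, 7, 4, 3, 7, 5, 4, 3, 7, 2, 3, 7, 4, 3, 5], [0, 16, 8, 6, 4, 2, 12, 4, 6, 8, 16, 12, 4, 2, 6], 39, false⟩) (lall (memL L) [2, 3, 7, 9, 5, 4, 3, 7, 2, 3, 4, 5, 9, 1, 7, 3, 7, 4, 3, 7, 5, 4, 3, 7, 2, 3, 7, 4, 3, 5]) = true := by decide +kernel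

theorem rot4_40 : T.rot 4 [3, 7, 2, 3, 4, 5, 9, 1, 7, 3, 7, 4, 3, 7, 5, 4, 3, 7, 2, 3, 7, 4, 3, 5, 4, 2, 3, 7, 9, 5] (sel (ones 12672) ip4 40) = true := by decide +kernel

theorem rot4_40r : band (Rule.ok (2 * 9) EX RL ⟨4 :: [3, 7, 2, 3, 4, 5, 9, 1, 7, 3, 7, 4, 3, 7, 5, 4, 3, 7, 2, 3, 7, 4, 3, 5, 4, 2, 3, 7, 9, 5], [0, 16, 8, 6, 4, 2, 12, 4, 6], 39, false⟩) (lall (memL L) [3, 7, 2, 3, 4, 5, 9, 1, 7, 3, 7, 4, 3, 7, 5, 4, 3, 7, 2, 3, 7, 4, 3, 5, 4, 2, 3, 7, 9, 5]) = true := by decide +kernel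

theorem rot4_41 : T.rot 4 [5, 9, 1, 7, 3, 7, 4, 3, 7, 5, 4, 3, 7, 2, 3, 7, 4, 3, 5, 4, 2, 3, 7, 9, 5, 4, 3, 7, 2, 3] (sel (ones 12672) ip4 41) = true := by decide +kernel

theorem rot4_41r : band (Rule.ok (2 * 9) EX RL ⟨4 :: [5, 9, 1, 7, 3, 7, 4, 3, 7, 5, 4, 3, 7, 2, 3, 7, 4, 3, 5, 4, 2, 3, 7, 9, 5, 4, 3, 7, 2, 3], [0, 16, 8, 6], 39, false⟩) (lall (memL L) [5, 9, 1, 7, 3, 7, 4, 3, 7, 5, 4, 3, 7, 2, 3, 7, 4, 3, 5, 4, 2, 3, 7, 9, 5, 4, 3, 7, 2, 3]) = true := by decide +kernel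

theorem rot4_42 : T.rot 4 [3, 7, 8, 2, 6, 5, 4, 3, 7, 8, 2, 6, 5, 4, 3, 7, 8, 2, 6, 5, 4, 3, 7, 8, 2, 6, 5, 4, 3, 7, 8, 2, 6, 5, 4, 3, 7, 8, 2, 6, 5, 4, 3, 7, 8, 2, 6, 5, 4, 3, 7, 8, 2, 6, 5, 4, 3, 7, 8, 2, 6, 5] (sel (ones 12672) ip4 42) = true := by decide +kernel

theorem rot4_42r : band (Rule.ok (2 * 9) EX RL ⟨4 :: [3, 7, 8, 2, 6, 5, 4, 3, 7, 8, 2, 6, 5, 4, 3, 7, 8, 2, 6, 5, 4, 3, 7, 8, 2, 6, 5, 4, 3, 7, 8, 2, 6, 5, 4, 3, 7, 8, 2, 6, 5, 4, 3, 7, 8, 2, 6, 5, 4, 3, 7, 8, 2, 6, 5, 4, 3, 7, 8, 2, 6, 5], [2, 10, 8], 36, true⟩) (lall (memL L) [3, 7, 8, 2, 6, 5, 4, 3, 7, 8, 2, 6, 5, 4, 3, 7, 8, 2, 6, 5, 4, 3, 7, 8, 2, 6, 5, 4, 3, 7, 8, 2, 6, 5, 4, 3, 7, 8, 2, 6, 5, 4, 3, 7, 8, 2, 6, 5, 4, 3, 7, 8, 2, 6, 5, 4, 3, 7, 8, 2, 6, 5]) = true := by decide +kernel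

theorem rot4_43 : T.rot 4 [5, 6, 2, 8, 7, 3, 4, 5, 6, 2, 8, 7, 3, 4, 5, 6, 2, 8, 7, 3, 4, 5, 6, 2, 8, 7, 3, 4, 5, 6, 2, 8, 7, 3, 4, 5, 6, 2, 8, 7, 3, 4, 5, 6, 2, 8, 7, 3, 4, 5, 6, 2, 8, 7, 3, 4, 5, 6, 2, 8, 7, 3] (sel (ones 12672) ip4 43) = true := by decide +kernel

theorem rot4_43r : band (Rule.ok (2 * 9) EX RL ⟨4 :: [5, 6, 2, 8, 7, 3, 4, 5, 6, 2, 8, 7, 3, 4, 5, 6, 2, 8, 7, 3, 4, 5, 6, 2, 8, 7, 3, 4, 5, 6, 2, 8, 7, 3, 4, 5, 6, 2, 8, 7, 3, 4, 5, 6, 2, 8, 7, 3, 4, 5, 6, 2, 8, 7, 3, 4, 5, 6, 2, 8, 7, 3], [14, 12, 4], 36, false⟩) (lall (memL L) [5, 6, 2, 8, 7, 3, 4, 5, 6, 2, 8, 7, 3, 4, 5, 6, 2, 8, 7, 3, 4, 5, 6, 2, 8, 7, 3, 4, 5, 6, 2, 8, 7, 3, 4, 5, 6, 2, 8, 7, 3, 4, 5, 6, 2, 8, 7, 3, 4, 5, 6, 2, 8, 7, 3, 4, 5, 6, 2, 8, 7, 3]) = true := by decide +kernel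

theorem cov4 : T.cover 4 [(sel (ones 12672) ip4 1), (sel (ones 12672) ip4 2), (sel (ones 12672) ip4 3), (sel (ones 12672) ip4 4), (sel (ones 12672) ip4 5), (sel (ones 12672) ip4 6), (sel (ones 12672) ip4 7), (sel (ones 12672) ip4 8), (sel (ones 12672) ip4 9), (sel (ones 12672) ip4 10), (sel (ones 12672) ip4 11), (sel (ones 12672) ip4 12), (sel (ones 12672) ip4 13), (sel (ones 12672) ip4 14), (sel (ones 12672) ip4 15), (sel (ones 12672) ip4 16), (sel (ones 12672) ip4 17), (sel (ones 12672) ip4 18), (sel (ones 12672) ip4 19), (sel (ones 12672) ip4 20), (sel (ones 12672) ip4 21), (sel (ones 12672) ip4 22), (sel (ones 12672) ip4 23), (sel (ones 12672) ip4 24), (sel (ones 12672) ip4 25), (sel (ones 12672) ip4 26), (sel (ones 12672) ip4 27), (sel (ones 12672) ip4 28), (sel (ones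 12672) ip4 29), (sel (ones 12672) ip4 30), (sel (ones 12672) ip4 31), (sel (ones 12672) ip4 32), (sel (ones 12672) ip4 33), (sel (ones 12672) ip4 34), (sel (ones 12672) ip4 35), (sel (ones 12672) ip4 36), (sel (ones 12672) ip4 37), (sel (ones 12672) ip4 38), (sel (ones 12672) ip4 39), (sel (ones 12672) ip4 40), (sel (ones 12672) ip4 41), (sel (ones 12672) ip4 42), (sel (ones 12672) ip4 43), 1] = true := by decide +kernel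

theorem tl4 : T.treeLt 14 4 = true := by decide +kernel

theorem rot5_1 : T.rot 5 [5] (sel (ones 12672) ip5 1) = true := by decide +kernel

theorem rot5_1r : band (Rule.ok (2 * 9) EX RL ⟨5 :: [5], [], 40, false⟩) (lall (memL L) [5]) = true := by decide +kernel

theorem rot5_2 : T.rot 5 [2, 5, 2] (sel (ones 12672) ip5 2) = true := by decide +kernel

theorem rot5_2r : band (Rule.ok (2 * 9) EX RL ⟨5 :: [2, 5, 2], [], 2, true⟩) (lall (memL L) [2, 5, 2]) = true := by decide +kernel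

theorem rot5_3 : T.rot 5 [3, 5, 3] (sel (ones 12672) ip5 3) = true := by decide +kernel

theorem rot5_3r : band (Rule.ok (2 * 9) EX RL ⟨5 :: [3, 5, 3], [], 8, true⟩) (lall (memL L) [3, 5, 3]) = true := by decide +kernel

theorem rot5_4 : T.rot 5 [7, 5, 7] (sel (ones 12672) ip5 4) = true := by decide +kernel

theorem rot5_4r : band (Rule.ok (2 * 9) EX RL ⟨5 :: [7, 5, 7], [], 19, false⟩) (lall (memL L) [7, 5, 7]) = true := by decide +kernel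

theorem rot5_5 : T.rot 5 [8, 5, 8] (sel (ones 12672) ip5 5) = true := by decide +kernel

theorem rot5_5r : band (Rule.ok (2 * 9) EX RL ⟨5 :: [8, 5, 8], [], 20, false⟩) (lall (memL L) [8, 5, 8]) = true := by decide +kernel

theorem rot5_6 : T.rot 5 [1, 5, 1] (sel (ones 12672) ip5 6) = true := by decide +kernel

theorem rot5_6r : band (Rule.ok (2 * 9) EX RL ⟨5 :: [1, 5, 1], [], 31, true⟩) (lall (memL L) [1, 5, 1]) = true := by decide +kernel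

theorem rot5_7 : T.rot 5 [4, 5, 4, 5, 4] (sel (ones 12672) ip5 7) = true := by decide +kernel

theorem rot5_7r : band (Rule.ok (2 * 9) EX RL ⟨5 :: [4, 5, 4, 5, 4], [], 13, true⟩) (lall (memL L) [4, 5, 4, 5, 4]) = true := by decide +kernel

theorem rot5_8 : T.rot 5 [6, 5, 6, 5, 6] (sel (ones 12672) ip5 8) = true := by decide +kernel

theorem rot5_8r : band (Rule.ok (2 * 9) EX RL ⟨5 :: [6, 5, 6, 5, 6], [], 18, false⟩) (lall (memL L) [6, 5, 6, 5, 6]) = true := by decide +kernel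

theorem rot5_9 : T.rot 5 [9, 5, 9, 5, 9] (sel (ones 12672) ip5 9) = true := by decide +kernel

theorem rot5_9r : band (Rule.ok (2 * 9) EX RL ⟨5 :: [9, 5, 9, 5, 9], [], 21, false⟩) (lall (memL L) [9, 5, 9, 5, 9]) = true := by decide +kernel

theorem rot5_10 : T.rot 5 [4, 3, 8, 7, 9, 5, 8, 9, 4, 3, 7, 8, 5, 9, 4, 5, 3, 4, 7, 3, 8, 7, 9] (sel (ones 12672) ip5 10) = true := by decide +kernel

theorem rot5_10r : band (Rule.ok (2 * 9) EX RL ⟨5 :: [4, 3, 8, 7, 9, 5, 8, 9, 4, 3, 7, 8, 5, 9, 4, 5, 3, 4, 7, 3, 8, 7, 9], [16], 37, true⟩) (lall (memL L) [4, 3, 8, 7, 9, 5, 8, 9, 4, 3, 7, 8, 5, 9, 4, 5, 3, 4, 7, 3, 8, 7, 9]) = true := by decide +kernel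

theorem rot5_11 : T.rot 5 [8, 9, 4, 3, 7, 8, 5, 9, 4, 5, 3, 4, 7, 3, 8, 7, 9, 5, 4, 3, 8, 7, 9] (sel (ones 12672) ip5 11) = true := by decide +kernel

theorem rot5_11r : band (Rule.ok (2 * 9) EX RL ⟨5 :: [8, 9, 4, 3, 7, 8, 5, 9, 4, 5, 3, 4, 7, 3, 8, 7, 9, 5, 4, 3, 8, 7, 9], [16, 8, 6, 4, 14, 12, 16], 37, true⟩) (lall (memL L) [8, 9, 4, 3, 7, 8, 5, 9, 4, 5, 3, 4, 7, 3, 8, 7, 9, 5, 4, 3, 8, 7, 9]) = true := by decide +kernel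

theorem rot5_12 : T.rot 5 [9, 4, 5, 3, 4, 7, 3, 8, 7, 9, 5, 4, 3, 8, 7, 9, 5, 8, 9, 4, 3, 7, 8] (sel (ones 12672) ip5 12) = true := by decide +kernel

theorem rot5_12r : band (Rule.ok (2 * 9) EX RL ⟨5 :: [9, 4, 5, 3, 4, 7, 3, 8, 7, 9, 5, 4, 3, 8, 7, 9, 5, 8, 9, 4, 3, 7, 8], [12, 14, 4, 12, 6, 4, 8, 6, 16, 8], 37, true⟩) (lall (memL L) [9, 4, 5, 3, 4, 7, 3, 8, 7, 9, 5, 4, 3, 8, 7, 9, 5, 8, 9, 4, 3, 7, 8]) = true := by decide +kernel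

theorem rot5_13 : T.rot 5 [3, 4, 7, 3, 8, 7, 9, 5, 4, 3, 8, 7, 9, 5, 8, 9, 4, 3, 7, 8, 5, 9, 4] (sel (ones 12672) ip5 13) = true := by decide +kernel

theorem rot5_13r : band (Rule.ok (2 * 9) EX RL ⟨5 :: [3, 4, 7, 3, 8, 7, 9, 5, 4, 3, 8, 7, 9, 5, 8, 9, 4, 3, 7, 8, 5, 9, 4], [12, 14, 4, 12, 6, 4, 8], 37, true⟩) (lall (memL L) [3, 4, 7, 3, 8, 7, 9, 5, 4, 3, 8, 7, 9, 5, 8, 9, 4, 3, 7, 8, 5, 9, 4]) = true := by decide +kernel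

theorem rot5_14 : T.rot 5 [4, 9, 5, 8, 7, 3, 4, 9, 8, 5, 9, 7, 8, 3, 4, 5, 9, 7, 8, 3, 7, 4, 3] (sel (ones 12672) ip5 14) = true := by decide +kernel

theorem rot5_14r : band (Rule.ok (2 * 9) EX RL ⟨5 :: [4, 9, 5, 8, 7, 3, 4, 9, 8, 5, 9, 7, 8, 3, 4, 5, 9, 7, 8, 3, 7, 4, 3], [12, 14, 4, 12, 6, 4], 37, false⟩) (lall (memL L) [4, 9, 5, 8, 7, 3, 4, 9, 8, 5, 9, 7, 8, 3, 4, 5, 9, 7, 8, 3, 7, 4, 3]) = true := by decide +kernel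

theorem rot5_15 : T.rot 5 [8, 7, 3, 4, 9, 8, 5, 9, 7, 8, 3, 4, 5, 9, 7, 8, 3, 7, 4, 3, 5, 4, 9] (sel (ones 12672) ip5 15) = true := by decide +kernel

theorem rot5_15r : band (Rule.ok (2 * 9) EX RL ⟨5 :: [8, 7, 3, 4, 9, 8, 5, 9, 7, 8, 3, 4, 5, 9, 7, 8, 3, 7, 4, 3, 5, 4, 9], [12, 14, 4, 12, 6, 4, 8, 6, 16], 37, false⟩) (lall (memL L) [8, 7, 3, 4, 9, 8, 5, 9, 7, 8, 3, 4, 5, 9, 7, 8, 3, 7, 4, 3, 5, 4, 9]) = true := by decide +kernel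

theorem rot5_16 : T.rot 5 [9, 7, 8, 3, 4, 5, 9, 7, 8, 3, 7, 4, 3, 5, 4, 9, 5, 8, 7, 3, 4, 9, 8] (sel (ones 12672) ip5 16) = true := by decide +kernel

theorem rot5_16r : band (Rule.ok (2 * 9) EX RL ⟨5 :: [9, 7, 8, 3, 4, 5, 9, 7, 8, 3, 7, 4, 3, 5, 4, 9, 5, 8, 7, 3, 4, 9, 8], [16, 8, 6, 4, 14, 12, 16, 8], 37, false⟩) (lall (memL L) [9, 7, 8, 3, 4, 5, 9, 7, 8, 3, 7, 4, 3, 5, 4, 9, 5, 8, 7, 3, 4, 9, 8]) = true := by decide +kernel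

theorem rot5_17 : T.rot 5 [9, 7, 8, 3, 7, 4, 3, 5, 4, 9, 5, 8, 7, 3, 4, 9, 8, 5, 9, 7, 8, 3, 4] (sel (ones 12672) ip5 17) = true := by decide +kernel

theorem rot5_17r : band (Rule.ok (2 * 9) EX RL ⟨5 :: [9, 7, 8, 3, 7, 4, 3, 5, 4, 9, 5, 8, 7, 3, 4, 9, 8, 5, 9, 7, 8, 3, 4], [16, 8], 37, false⟩) (lall (memL L) [9, 7, 8, 3, 7, 4, 3, 5, 4, 9, 5, 8, 7, 3, 4, 9, 8, 5, 9, 7, 8, 3, 4]) = true := by decide +kernel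

theorem rot5_18 : T.rot 5 [4, 3, 6, 5, 4, 7, 9, 5, 6, 3, 4, 5, 9, 7, 3, 4, 5, 6, 7, 3, 4, 5, 7, 3, 4, 7, 3, 7, 9] (sel (ones 12672) ip5 18) = true := by decide +kernel

theorem rot5_18r : band (Rule.ok (2 * 9) EX RL ⟨5 :: [4, 3, 6, 5, 4, 7, 9, 5, 6, 3, 4, 5, 9, 7, 3, 4, 5, 6, 7, 3, 4, 5, 7, 3, 4, 7, 3, 7, 9], [16], 38, true⟩) (lall (memL L) [4, 3, 6, 5, 4, 7, 9, 5, 6, 3, 4, 5, 9, 7, 3, 4, 5, 6, 7, 3, 4, 5, 7, 3, 4, 7, 3, 7, 9]) = true := by decide +kernel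

theorem rot5_19 : T.rot 5 [4, 7, 9, 5, 6, 3, 4, 5, 9, 7, 3, 4, 5, 6, 7, 3, 4, 5, 7, 3, 4, 7, 3, 7, 9, 5, 4, 3, 6] (sel (ones 12672) ip5 19) = true := by decide +kernel

theorem rot5_19r : band (Rule.ok (2 * 9) EX RL ⟨5 :: [4, 7, 9, 5, 6, 3, 4, 5, 9, 7, 3, 4, 5, 6, 7, 3, 4, 5, 7, 3, 4, 7, 3, 7, 9, 5, 4, 3, 6], [16, 8, 6, 4, 10], 38, true⟩) (lall (memL L) [4, 7, 9, 5, 6, 3, 4, 5, 9, 7, 3, 4, 5, 6, 7, 3, 4, 5, 7, 3, 4, 7, 3, 7, 9, 5, 4, 3, 6]) = true := by decide +kernel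

theorem rot5_20 : T.rot 5 [6, 3, 4, 5, 9, 7, 3, 4, 5, 6, 7, 3, 4, 5, 7, 3, 4, 7, 3, 7, 9, 5, 4, 3, 6, 5, 4, 7, 9] (sel (ones 12672) ip5 20) = true := by decide +kernel

theorem rot5_20r : band (Rule.ok (2 * 9) EX RL ⟨5 :: [6, 3, 4, 5, 9, 7, 3, 4, 5, 6, 7, 3, 4, 5, 7, 3, 4, 7, 3, 7, 9, 5, 4, 3, 6, 5, 4, 7, 9], [16, 8, 6, 4, 10, 8, 6, 12, 16], 38, true⟩) (lall (memL L) [6, 3, 4, 5, 9, 7, 3, 4, 5, 6, 7, 3, 4, 5, 7, 3, 4, 7, 3, 7, 9, 5, 4, 3, 6, 5, 4, 7, 9]) = true := by decide +kernel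

theorem rot5_21 : T.rot 5 [9, 7, 3, 4, 5, 6, 7, 3, 4, 5, 7, 3, 4, 7, 3, 7, 9, 5, 4, 3, 6, 5, 4, 7, 9, 5, 6, 3, 4] (sel (ones 12672) ip5 21) = true := by decide +kernel

theorem rot5_21r : band (Rule.ok (2 * 9) EX RL ⟨5 :: [9, 7, 3, 4, 5, 6, 7, 3, 4, 5, 7, 3, 4, 7, 3, 7, 9, 5, 4, 3, 6, 5, 4, 7, 9, 5, 6, 3, 4], [16, 8, 6, 4, 10, 8, 6, 12, 16, 8, 10, 4, 6], 38, true⟩) (lall (memL L) [9, 7, 3, 4, 5, 6, 7, 3, 4, 5, 7, 3, 4, 7, 3, 7, 9, 5, 4, 3, 6, 5, 4, 7, 9, 5, 6, 3, 4]) = true := by decide +kernel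

theorem rot5_22 : T.rot 5 [6, 7, 3, 4, 5, 7, 3, 4, 7, 3, 7, 9, 5, 4, 3, 6, 5, 4, 7, 9, 5, 6, 3, 4, 5, 9, 7, 3, 4] (sel (ones 12672) ip5 22) = true := by decide +kernel

theorem rot5_22r : band (Rule.ok (2 * 9) EX RL ⟨5 :: [6, 7, 3, 4, 5, 7, 3, 4, 7, 3, 7, 9, 5, 4, 3, 6, 5, 4, 7, 9, 5, 6, 3, 4, 5, 9, 7, 3, 4], [12, 4, 12, 6, 4, 12, 8, 6, 4, 12, 10, 8], 38, true⟩) (lall (memL L) [6, 7, 3, 4, 5, 7, 3, 4, 7, 3, 7, 9, 5, 4, 3, 6, 5, 4, 7, 9, 5, 6, 3, 4, 5, 9, 7, 3, 4]) = true := by decide +kernel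

theorem rot5_23 : T.rot 5 [7, 3, 4, 7, 3, 7, 9, 5, 4, 3, 6, 5, 4, 7, 9, 5, 6, 3, 4, 5, 9, 7, 3, 4, 5, 6, 7, 3, 4] (sel (ones 12672) ip5 23) = true := by decide +kernel

theorem rot5_23r : band (Rule.ok (2 * 9) EX RL ⟨5 :: [7, 3, 4, 7, 3, 7, 9, 5, 4, 3, 6, 5, 4, 7, 9, 5, 6, 3, 4, 5, 9, 7, 3, 4, 5, 6, 7, 3, 4], [12, 4, 12, 6, 4, 12, 8], 38, true⟩) (lall (memL L) [7, 3, 4, 7, 3, 7, 9, 5, 4, 3, 6, 5, 4, 7, 9, 5, 6, 3, 4, 5, 9, 7, 3, 4, 5, 6, 7, 3, 4]) = true := by decide +kernel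

theorem rot5_24 : T.rot 5 [4, 3, 7, 6, 5, 4, 3, 7, 9, 5, 4, 3, 6, 5, 9, 7, 4, 5, 6, 3, 4, 5, 9, 7, 3, 7, 4, 3, 7] (sel (ones 12672) ip5 24) = true := by decide +kernel

theorem rot5_24r : band (Rule.ok (2 * 9) EX RL ⟨5 :: [4, 3, 7, 6, 5, 4, 3, 7, 9, 5, 4, 3, 6, 5, 9, 7, 4, 5, 6, 3, 4, 5, 9, 7, 3, 7, 4, 3, 7], [12, 4, 12, 6, 4, 12], 38, false⟩) (lall (memL L) [4, 3, 7, 6, 5, 4, 3, 7, 9, 5, 4, 3, 6, 5, 9, 7, 4, 5, 6, 3, 4, 5, 9, 7, 3, 7, 4, 3, 7]) = true := by decide +kernel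

theorem rot5_25 : T.rot 5 [4, 3, 7, 9, 5, 4, 3, 6, 5, 9, 7, 4, 5, 6, 3, 4, 5, 9, 7, 3, 7, 4, 3, 7, 5, 4, 3, 7, 6] (sel (ones 12672) ip5 25) = true := by decide +kernel

theorem rot5_25r : band (Rule.ok (2 * 9) EX RL ⟨5 :: [4, 3, 7, 9, 5, 4, 3, 6, 5, 9, 7, 4, 5, 6, 3, 4, 5, 9, 7, 3, 7, 4, 3, 7, 5, 4, 3, 7, 6], [12, 4, 12, 6, 4, 12, 8, 6, 4, 12, 10], 38, false⟩) (lall (memL L) [4, 3, 7, 9, 5, 4, 3, 6, 5, 9, 7, 4, 5, 6, 3, 4, 5, 9, 7, 3, 7, 4, 3, 7, 5, 4, 3, 7, 6]) = true := by decide +kernel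

theorem rot5_26 : T.rot 5 [4, 3, 6, 5, 9, 7, 4, 5, 6, 3, 4, 5, 9, 7, 3, 7, 4, 3, 7, 5, 4, 3, 7, 6, 5, 4, 3, 7, 9] (sel (ones 12672) ip5 26) = true := by decide +kernel

theorem rot5_26r : band (Rule.ok (2 * 9) EX RL ⟨5 :: [4, 3, 6, 5, 9, 7, 4, 5, 6, 3, 4, 5, 9, 7, 3, 7, 4, 3, 7, 5, 4, 3, 7, 6, 5, 4, 3, 7, 9], [16, 8, 6, 4, 10, 8, 6, 12, 16, 8, 10, 4, 6, 8], 38, false⟩) (lall (memL L) [4, 3, 6, 5, 9, 7, 4, 5, 6, 3, 4, 5, 9, 7, 3, 7, 4, 3, 7, 5, 4, 3, 7, 6, 5, 4, 3, 7, 9]) = true := by decide +kernel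

theorem rot5_27 : T.rot 5 [9, 7, 4, 5, 6, 3, 4, 5, 9, 7, 3, 7, 4, 3, 7, 5, 4, 3, 7, 6, 5, 4, 3, 7, 9, 5, 4, 3, 6] (sel (ones 12672) ip5 27) = true := by decide +kernel

theorem rot5_27r : band (Rule.ok (2 * 9) EX RL ⟨5 :: [9, 7, 4, 5, 6, 3, 4, 5, 9, 7, 3, 7, 4, 3, 7, 5, 4, 3, 7, 6, 5, 4, 3, 7, 9, 5, 4, 3, 6], [16, 8, 6, 4, 10, 8, 6, 12, 16, 8], 38, false⟩) (lall (memL L) [9, 7, 4, 5, 6, 3, 4, 5, 9, 7, 3, 7, 4, 3, 7, 5, 4, 3, 7, 6, 5, 4, 3, 7, 9, 5, 4, 3, 6]) = true := by decide +kernel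

theorem rot5_28 : T.rot 5 [6, 3, 4, 5, 9, 7, 3, 7, 4, 3, 7, 5, 4, 3, 7, 6, 5, 4, 3, 7, 9, 5, 4, 3, 6, 5, 9, 7, 4] (sel (ones 12672) ip5 28) = true := by decide +kernel

theorem rot5_28r : band (Rule.ok (2 * 9) EX RL ⟨5 :: [6, 3, 4, 5, 9, 7, 3, 7, 4, 3, 7, 5, 4, 3, 7, 6, 5, 4, 3, 7, 9, 5, 4, 3, 6, 5, 9, 7, 4], [16, 8, 6, 4, 10, 8], 38, false⟩) (lall (memL L) [6, 3, 4, 5, 9, 7, 3, 7, 4, 3, 7, 5, 4, 3, 7, 6, 5, 4, 3, 7, 9, 5, 4, 3, 6, 5, 9, 7, 4]) = true := by decide +kernel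

theorem rot5_29 : T.rot 5 [9, 7, 3, 7, 4, 3, 7, 5, 4, 3, 7, 6, 5, 4, 3, 7, 9, 5, 4, 3, 6, 5, 9, 7, 4, 5, 6, 3, 4] (sel (ones 12672) ip5 29) = true := by decide +kernel

theorem rot5_29r : band (Rule.ok (2 * 9) EX RL ⟨5 :: [9, 7, 3, 7, 4, 3, 7, 5, 4, 3, 7, 6, 5, 4, 3, 7, 9, 5, 4, 3, 6, 5, 9, 7, 4, 5, 6, 3, 4], [16, 8], 38, false⟩) (lall (memL L) [9, 7, 3, 7, 4, 3, 7, 5, 4, 3, 7, 6, 5, 4, 3, 7, 9, 5, 4, 3, 6, 5, 9, 7, 4, 5, 6, 3, 4]) = true := by decide +kernel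

theorem rot5_30 : T.rot 5 [4, 3, 2, 7, 3, 4, 5, 9, 7, 3, 2, 4, 5, 3, 4, 7, 3, 2, 7, 3, 4, 5, 7, 3, 4, 7, 3, 7, 1, 9] (sel (ones 12672) ip5 30) = true := by decide +kernel

theorem rot5_30r : band (Rule.ok (2 * 9) EX RL ⟨5 :: [4, 3, 2, 7, 3, 4, 5, 9, 7, 3, 2, 4, 5, 3, 4, 7, 3, 2, 7, 3, 4, 5, 7, 3, 4, 7, 3, 7, 1, 9], [0, 16], 39, true⟩) (lall (memL L) [4, 3, 2, 7, 3, 4, 5, 9, 7, 3, 2, 4, 5, 3, 4, 7, 3, 2, 7, 3, 4, 5, 7, 3, 4, 7, 3, 7, 1, 9]) = true := by decide +kernel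

theorem rot5_31 : T.rot 5 [9, 7, 3, 2, 4, 5, 3, 4, 7, 3, 2, 7, 3, 4, 5, 7, 3, 4, 7, 3, 7, 1, 9, 5, 4, 3, 2, 7, 3, 4] (sel (ones 12672) ip5 31) = true := by decide +kernel

theorem rot5_31r : band (Rule.ok (2 * 9) EX RL ⟨5 :: [9, 7, 3, 2, 4, 5, 3, 4, 7, 3, 2, 7, 3, 4, 5, 7, 3, 4, 7, 3, 7, 1, 9, 5, 4, 3, 2, 7, 3, 4], [0, 16, 8, 6, 4, 2, 12, 4, 6], 39, true⟩) (lall (memL L) [9, 7, 3, 2, 4, 5, 3, 4, 7, 3, 2, 7, 3, 4, 5, 7, 3, 4, 7, 3, 7, 1, 9, 5, 4, 3, 2, 7, 3, 4]) = true := by decide +kernel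

theorem rot5_32 : T.rot 5 [3, 4, 7, 3, 2, 7, 3, 4, 5, 7, 3, 4, 7, 3, 7, 1, 9, 5, 4, 3, 2, 7, 3, 4, 5, 9, 7, 3, 2, 4] (sel (ones 12672) ip5 32) = true := by decide +kernel

theorem rot5_32r : band (Rule.ok (2 * 9) EX RL ⟨5 :: [3, 4, 7, 3, 2, 7, 3, 4, 5, 7, 3, 4, 7, 3, 7, 1, 9, 5, 4, 3, 2, 7, 3, 4, 5, 9, 7, 3, 2, 4], [0, 16, 8, 6, 4, 2, 12, 4, 6, 8, 16, 12, 4, 2, 6], 39, true⟩) (lall (memL L) [3, 4, 7, 3, 2, 7, 3, 4, 5, 7, 3, 4, 7, 3, 7, 1, 9, 5, 4, 3, 2, 7, 3, 4, 5, 9, 7, 3, 2, 4]) = true := by decide +kernel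

theorem rot5_33 : T.rot 5 [7, 3, 4, 7, 3, 7, 1, 9, 5, 4, 3, 2, 7, 3, 4, 5, 9, 7, 3, 2, 4, 5, 3, 4, 7, 3, 2, 7, 3, 4] (sel (ones 12672) ip5 33) = true := by decide +kernel

theorem rot5_33r : band (Rule.ok (2 * 9) EX RL ⟨5 :: [7, 3, 4, 7, 3, 7, 1, 9, 5, 4, 3, 2, 7, 3, 4, 5, 9, 7, 3, 2, 4, 5, 3, 4, 7, 3, 2, 7, 3, 4], [12, 4, 12, 6, 4, 12, 8], 39, true⟩) (lall (memL L) [7, 3, 4, 7, 3, 7, 1, 9, 5, 4, 3, 2, 7, 3, 4, 5, 9, 7, 3, 2, 4, 5, 3, 4, 7, 3, 2, 7, 3, 4]) = true := by decide +kernel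

theorem rot5_34 : T.rot 5 [4, 3, 7, 2, 3, 7, 4, 3, 5, 4, 2, 3, 7, 9, 5, 4, 3, 7, 2, 3, 4, 5, 9, 1, 7, 3, 7, 4, 3, 7] (sel (ones 12672) ip5 34) = true := by decide +kernel

theorem rot5_34r : band (Rule.ok (2 * 9) EX RL ⟨5 :: [4, 3, 7, 2, 3, 7, 4, 3, 5, 4, 2, 3, 7, 9, 5, 4, 3, 7, 2, 3, 4, 5, 9, 1, 7, 3, 7, 4, 3, 7], [12, 4, 12, 6, 4, 12], 39, false⟩) (lall (memL L) [4, 3, 7, 2, 3, 7, 4, 3, 5, 4, 2, 3, 7, 9, 5, 4, 3, 7, 2, 3, 4, 5, 9, 1, 7, 3, 7, 4, 3, 7]) = true := by decide +kernel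

theorem rot5_35 : T.rot 5 [4, 2, 3, 7, 9, 5, 4, 3, 7, 2, 3, 4, 5, 9, 1, 7, 3, 7, 4, 3, 7, 5, 4, 3, 7, 2, 3, 7, 4, 3] (sel (ones 12672) ip5 35) = true := by decide +kernel

theorem rot5_35r : band (Rule.ok (2 * 9) EX RL ⟨5 :: [4, 2, 3, 7, 9, 5, 4, 3, 7, 2, 3, 4, 5, 9, 1, 7, 3, 7, 4, 3, 7, 5, 4, 3, 7, 2, 3, 7, 4, 3], [12, 4, 12, 6, 4, 12, 8, 6, 4, 12, 2, 4, 12, 6, 4], 39, false⟩) (lall (memL L) [4, 2, 3, 7, 9, 5, 4, 3, 7, 2, 3, 4, 5, 9, 1, 7, 3, 7, 4, 3, 7, 5, 4, 3, 7, 2, 3, 7, 4, 3]) = true := by decide +kernel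

theorem rot5_36 : T.rot 5 [4, 3, 7, 2, 3, 4, 5, 9, 1, 7, 3, 7, 4, 3, 7, 5, 4, 3, 7, 2, 3, 7, 4, 3, 5, 4, 2, 3, 7, 9] (sel (ones 12672) ip5 36) = true := by decide +kernel

theorem rot5_36r : band (Rule.ok (2 * 9) EX RL ⟨5 :: [4, 3, 7, 2, 3, 4, 5, 9, 1, 7, 3, 7, 4, 3, 7, 5, 4, 3, 7, 2, 3, 7, 4, 3, 5, 4, 2, 3, 7, 9], [0, 16, 8, 6, 4, 2, 12, 4, 6, 8], 39, false⟩) (lall (memL L) [4, 3, 7, 2, 3, 4, 5, 9, 1, 7, 3, 7, 4, 3, 7, 5, 4, 3, 7, 2, 3, 7, 4, 3, 5, 4, 2, 3, 7, 9]) = true := by decide +kernel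

theorem rot5_37 : T.rot 5 [9, 1, 7, 3, 7, 4, 3, 7, 5, 4, 3, 7, 2, 3, 7, 4, 3, 5, 4, 2, 3, 7, 9, 5, 4, 3, 7, 2, 3, 4] (sel (ones 12672) ip5 37) = true := by decide +kernel

theorem rot5_37r : band (Rule.ok (2 * 9) EX RL ⟨5 :: [9, 1, 7, 3, 7, 4, 3, 7, 5, 4, 3, 7, 2, 3, 7, 4, 3, 5, 4, 2, 3, 7, 9, 5, 4, 3, 7, 2, 3, 4], [0, 16, 8], 39, false⟩) (lall (memL L) [9, 1, 7, 3, 7, 4, 3, 7, 5, 4, 3, 7, 2, 3, 7, 4, 3, 5, 4, 2, 3, 7, 9, 5, 4, 3, 7, 2, 3, 4]) = true := by decide +kernel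

theorem rot5_38 : T.rot 5 [4, 3, 7, 8, 2, 6, 5, 4, 3, 7, 8, 2, 6, 5, 4, 3, 7, 8, 2, 6, 5, 4, 3, 7, 8, 2, 6, 5, 4, 3, 7, 8, 2, 6, 5, 4, 3, 7, 8, 2, 6, 5, 4, 3, 7, 8, 2, 6, 5, 4, 3, 7, 8, 2, 6, 5, 4, 3, 7, 8, 2, 6] (sel (ones 12672) ip5 38) = true := by decide +kernel

theorem rot5_38r : band (Rule.ok (2 * 9) EX RL ⟨5 :: [4, 3, 7, 8, 2, 6, 5, 4, 3, 7, 8, 2, 6, 5, 4, 3, 7, 8, 2, 6, 5, 4, 3, 7, 8, 2, 6, 5, 4, 3, 7, 8, 2, 6, 5, 4, 3, 7, 8, 2, 6, 5, 4, 3, 7, 8, 2, 6, 5, 4, 3, 7, 8, 2, 6, 5, 4, 3, 7, 8, 2, 6], [2, 10], 36, true⟩) (lall (memL L) [4, 3, 7, 8, 2, 6, 5, 4, 3, 7, 8, 2, 6, 5, 4, 3, 7, 8, 2, 6, 5, 4, 3, 7, 8, 2, 6, 5, 4, 3, 7, 8, 2, 6, 5, 4, 3, 7, 8, 2, 6, 5, 4, 3, 7, 8, 2, 6, 5, 4, 3, 7, 8, 2, 6, 5, 4, 3, 7, 8, 2, 6]) = true := by decide +kernel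

theorem rot5_39 : T.rot 5 [6, 2, 8, 7, 3, 4, 5, 6, 2, 8, 7, 3, 4, 5, 6, 2, 8, 7, 3, 4, 5, 6, 2, 8, 7, 3, 4, 5, 6, 2, 8, 7, 3, 4, 5, 6, 2, 8, 7, 3, 4, 5, 6, 2, 8, 7, 3, 4, 5, 6, 2, 8, 7, 3, 4, 5, 6, 2, 8, 7, 3, 4] (sel (ones 12672) ip5 39) = true := by decide +kernel

theorem rot5_39r : band (Rule.ok (2 * 9) EX RL ⟨5 :: [6, 2, 8, 7, 3, 4, 5, 6, 2, 8, 7, 3, 4, 5, 6, 2, 8, 7, 3, 4, 5, 6, 2, 8, 7, 3, 4, 5, 6, 2, 8, 7, 3, 4, 5, 6, 2, 8, 7, 3, 4, 5, 6, 2, 8, 7, 3, 4, 5, 6, 2, 8, 7, 3, 4, 5, 6, 2, 8, 7, 3, 4], [2, 10, 8], 36, false⟩) (lall (memL L) [6, 2, 8, 7, 3, 4, 5, 6, 2, 8, 7, 3, 4, 5, 6, 2, 8, 7, 3, 4, 5, 6, 2, 8, 7, 3, 4, 5, 6, 2, 8, 7, 3, 4, 5, 6, 2, 8, 7, 3, 4, 5, 6, 2, 8, 7, 3, 4, 5, 6, 2, 8, 7, 3, 4, 5, 6, 2, 8, 7, 3, 4]) = true := by decide +kernel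

theorem cov5 : T.cover 5 [(sel (ones 12672) ip5 1), (sel (ones 12672) ip5 2), (sel (ones 12672) ip5 3), (sel (ones 12672) ip5 4), (sel (ones 12672) ip5 5), (sel (ones 12672) ip5 6), (sel (ones 12672) ip5 7), (sel (ones 12672) ip5 8), (sel (ones 12672) ip5 9), (sel (ones 12672) ip5 10), (sel (ones 12672) ip5 11), (sel (ones 12672) ip5 12), (sel (ones 12672) ip5 13), (sel (ones 12672) ip5 14), (sel (ones 12672) ip5 15), (sel (ones 12672) ip5 16), (sel (ones 12672) ip5 17), (sel (ones 12672) ip5 18), (sel (ones 12672) ip5 19), (sel (ones 12672) ip5 20), (sel (ones 12672) ip5 21), (sel (ones 12672) ip5 22), (sel (ones 12672) ip5 23), (sel (ones 12672) ip5 24), (sel (ones 12672) ip5 25), (sel (ones 12672) ip5 26), (sel (ones 12672) ip5 27), (sel (ones 12672) ip5 28), (sel (ones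 12672) ip5 29), (sel (ones 12672) ip5 30), (sel (ones 12672) ip5 31), (sel (ones 12672) ip5 32), (sel (ones 12672) ip5 33), (sel (ones 12672) ip5 34), (sel (ones 12672) ip5 35), (sel (ones 12672) ip5 36), (sel (ones 12672) ip5 37), (sel (ones 12672) ip5 38), (sel (ones 12672) ip5 39), 1] = true := by decide +kernel

theorem tl5 : T.treeLt 14 5 = true := by decide +kernel

theorem rot6_1 : T.rot 6 [6] (sel (ones 12672) ip6 1) = true := by decide +kernel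

theorem rot6_1r : band (Rule.ok (2 * 9) EX RL ⟨6 :: [6], [], 40, false⟩) (lall (memL L) [6]) = true := by decide +kernel

theorem rot6_2 : T.rot 6 [2, 6, 2] (sel (ones 12672) ip6 2) = true := by decide +kernel

theorem rot6_2r : band (Rule.ok (2 * 9) EX RL ⟨6 :: [2, 6, 2], [], 3, true⟩) (lall (memL L) [2, 6, 2]) = true := by decide +kernel

theorem rot6_3 : T.rot 6 [3, 6, 3] (sel (ones 12672) ip6 3) = true := by decide +kernel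

theorem rot6_3r : band (Rule.ok (2 * 9) EX RL ⟨6 :: [3, 6, 3], [], 9, true⟩) (lall (memL L) [3, 6, 3]) = true := by decide +kernel

theorem rot6_4 : T.rot 6 [4, 6, 4] (sel (ones 12672) ip6 4) = true := by decide +kernel

theorem rot6_4r : band (Rule.ok (2 * 9) EX RL ⟨6 :: [4, 6, 4], [], 14, true⟩) (lall (memL L) [4, 6, 4]) = true := by decide +kernel

theorem rot6_5 : T.rot 6 [7, 6, 7] (sel (ones 12672) ip6 5) = true := by decide +kernel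

theorem rot6_5r : band (Rule.ok (2 * 9) EX RL ⟨6 :: [7, 6, 7], [], 22, false⟩) (lall (memL L) [7, 6, 7]) = true := by decide +kernel

theorem rot6_6 : T.rot 6 [8, 6, 8] (sel (ones 12672) ip6 6) = true := by decide +kernel

theorem rot6_6r : band (Rule.ok (2 * 9) EX RL ⟨6 :: [8, 6, 8], [], 23, false⟩) (lall (memL L) [8, 6, 8]) = true := by decide +kernel

theorem rot6_7 : T.rot 6 [9, 6, 9] (sel (ones 12672) ip6 7) = true := by decide +kernel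

theorem rot6_7r : band (Rule.ok (2 * 9) EX RL ⟨6 :: [9, 6, 9], [], 24, false⟩) (lall (memL L) [9, 6, 9]) = true := by decide +kernel

theorem rot6_8 : T.rot 6 [1, 6, 1] (sel (ones 12672) ip6 8) = true := by decide +kernel

theorem rot6_8r : band (Rule.ok (2 * 9) EX RL ⟨6 :: [1, 6, 1], [], 32, true⟩) (lall (memL L) [1, 6, 1]) = true := by decide +kernel

theorem rot6_9 : T.rot 6 [5, 6, 5, 6, 5] (sel (ones 12672) ip6 9) = true := by decide +kernel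

theorem rot6_9r : band (Rule.ok (2 * 9) EX RL ⟨6 :: [5, 6, 5, 6, 5], [], 18, true⟩) (lall (memL L) [5, 6, 5, 6, 5]) = true := by decide +kernel

theorem rot6_10 : T.rot 6 [5, 4, 7, 9, 5, 6, 3, 4, 5, 9, 7, 3, 4, 5, 6, 7, 3, 4, 5, 7, 3, 4, 7, 3, 7, 9, 5, 4, 3] (sel (ones 12672) ip6 10) = true := by decide +kernel

theorem rot6_10r : band (Rule.ok (2 * 9) EX RL ⟨6 :: [5, 4, 7, 9, 5, 6, 3, 4, 5, 9, 7, 3, 4, 5, 6, 7, 3, 4, 5, 7, 3, 4, 7, 3, 7, 9, 5, 4, 3], [16, 8, 6, 4], 38, true⟩) (lall (memL L) [5, 4, 7, 9, 5, 6, 3, 4, 5, 9, 7, 3, 4, 5, 6, 7, 3, 4, 5, 7, 3, 4, 7, 3, 7, 9, 5, 4, 3]) = true := by decide +kernel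

theorem rot6_11 : T.rot 6 [3, 4, 5, 9, 7, 3, 4, 5, 6, 7, 3, 4, 5, 7, 3, 4, 7, 3, 7, 9, 5, 4, 3, 6, 5, 4, 7, 9, 5] (sel (ones 12672) ip6 11) = true := by decide +kernel

theorem rot6_11r : band (Rule.ok (2 * 9) EX RL ⟨6 :: [3, 4, 5, 9, 7, 3, 4, 5, 6, 7, 3, 4, 5, 7, 3, 4, 7, 3, 7, 9, 5, 4, 3, 6, 5, 4, 7, 9, 5], [16, 8, 6, 4, 10, 8, 6, 12, 16, 8], 38, true⟩) (lall (memL L) [3, 4, 5, 9, 7, 3, 4, 5, 6, 7, 3, 4, 5, 7, 3, 4, 7, 3, 7, 9, 5, 4, 3, 6, 5, 4, 7, 9, 5]) = true := by decide +kernel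

theorem rot6_12 : T.rot 6 [7, 3, 4, 5, 7, 3, 4, 7, 3, 7, 9, 5, 4, 3, 6, 5, 4, 7, 9, 5, 6, 3, 4, 5, 9, 7, 3, 4, 5] (sel (ones 12672) ip6 12) = true := by decide +kernel

theorem rot6_12r : band (Rule.ok (2 * 9) EX RL ⟨6 :: [7, 3, 4, 5, 7, 3, 4, 7, 3, 7, 9, 5, 4, 3, 6, 5, 4, 7, 9, 5, 6, 3, 4, 5, 9, 7, 3, 4, 5], [12, 4, 12, 6, 4, 12, 8, 6, 4, 12, 10], 38, true⟩) (lall (memL L) [7, 3, 4, 5, 7, 3, 4, 7, 3, 7, 9, 5, 4, 3, 6, 5, 4, 7, 9, 5, 6, 3, 4, 5, 9, 7, 3, 4, 5]) = true := by decide +kernel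

theorem rot6_13 : T.rot 6 [5, 4, 3, 7, 9, 5, 4, 3, 6, 5, 9, 7, 4, 5, 6, 3, 4, 5, 9, 7, 3, 7, 4, 3, 7, 5, 4, 3, 7] (sel (ones 12672) ip6 13) = true := by decide +kernel

theorem rot6_13r : band (Rule.ok (2 * 9) EX RL ⟨6 :: [5, 4, 3, 7, 9, 5, 4, 3, 6, 5, 9, 7, 4, 5, 6, 3, 4, 5, 9, 7, 3, 7, 4, 3, 7, 5, 4, 3, 7], [12, 4, 12, 6, 4, 12, 8, 6, 4, 12], 38, false⟩) (lall (memL L) [5, 4, 3, 7, 9, 5, 4, 3, 6, 5, 9, 7, 4, 5, 6, 3, 4, 5, 9, 7, 3, 7, 4, 3, 7, 5, 4, 3, 7]) = true := by decide +kernel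

theorem rot6_14 : T.rot 6 [5, 9, 7, 4, 5, 6, 3, 4, 5, 9, 7, 3, 7, 4, 3, 7, 5, 4, 3, 7, 6, 5, 4, 3, 7, 9, 5, 4, 3] (sel (ones 12672) ip6 14) = true := by decide +kernel

theorem rot6_14r : band (Rule.ok (2 * 9) EX RL ⟨6 :: [5, 9, 7, 4, 5, 6, 3, 4, 5, 9, 7, 3, 7, 4, 3, 7, 5, 4, 3, 7, 6, 5, 4, 3, 7, 9, 5, 4, 3], [16, 8, 6, 4, 10, 8, 6, 12, 16, 8, 10], 38, false⟩) (lall (memL L) [5, 9, 7, 4, 5, 6, 3, 4, 5, 9, 7, 3, 7, 4, 3, 7, 5, 4, 3, 7, 6, 5, 4, 3, 7, 9, 5, 4, 3]) = true := by decide +kernel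

theorem rot6_15 : T.rot 6 [3, 4, 5, 9, 7, 3, 7, 4, 3, 7, 5, 4, 3, 7, 6, 5, 4, 3, 7, 9, 5, 4, 3, 6, 5, 9, 7, 4, 5] (sel (ones 12672) ip6 15) = true := by decide +kernel

theorem rot6_15r : band (Rule.ok (2 * 9) EX RL ⟨6 :: [3, 4, 5, 9, 7, 3, 7, 4, 3, 7, 5, 4, 3, 7, 6, 5, 4, 3, 7, 9, 5, 4, 3, 6, 5, 9, 7, 4, 5], [16, 8, 6, 4, 10], 38, false⟩) (lall (memL L) [3, 4, 5, 9, 7, 3, 7, 4, 3, 7, 5, 4, 3, 7, 6, 5, 4, 3, 7, 9, 5, 4, 3, 6, 5, 9, 7, 4, 5]) = true := by decide +kernel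

theorem rot6_16 : T.rot 6 [5, 4, 3, 7, 8, 2, 6, 5, 4, 3, 7, 8, 2, 6, 5, 4, 3, 7, 8, 2, 6, 5, 4, 3, 7, 8, 2, 6, 5, 4, 3, 7, 8, 2, 6, 5, 4, 3, 7, 8, 2, 6, 5, 4, 3, 7, 8, 2, 6, 5, 4, 3, 7, 8, 2, 6, 5, 4, 3, 7, 8, 2] (sel (ones 12672) ip6 16) = true := by decide +kernel

theorem rot6_16r : band (Rule.ok (2 * 9) EX RL ⟨6 :: [5, 4, 3, 7, 8, 2, 6, 5, 4, 3, 7, 8, 2, 6, 5, 4, 3, 7, 8, 2, 6, 5, 4, 3, 7, 8, 2, 6, 5, 4, 3, 7, 8, 2, 6, 5, 4, 3, 7, 8, 2, 6, 5, 4, 3, 7, 8, 2, 6, 5, 4, 3, 7, 8, 2, 6, 5, 4, 3, 7, 8, 2], [2], 36, true⟩) (lall (memL L) [5, 4, 3, 7, 8, 2, 6, 5, 4, 3, 7, 8, 2, 6, 5, 4, 3, 7, 8, 2, 6, 5, 4, 3, 7, 8, 2, 6, 5, 4, 3, 7, 8, 2, 6, 5, 4, 3, 7, 8, 2, 6, 5, 4, 3, 7, 8, 2, 6, 5, 4, 3, 7, 8, 2, 6, 5, 4, 3, 7, 8, 2]) = true := by decide +kernel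

theorem rot6_17 : T.rot 6 [2, 8, 7, 3, 4, 5, 6, 2, 8, 7, 3, 4, 5, 6, 2, 8, 7, 3, 4, 5, 6, 2, 8, 7, 3, 4, 5, 6, 2, 8, 7, 3, 4, 5, 6, 2, 8, 7, 3, 4, 5, 6, 2, 8, 7, 3, 4, 5, 6, 2, 8, 7, 3, 4, 5, 6, 2, 8, 7, 3, 4, 5] (sel (ones 12672) ip6 17) = true := by decide +kernel

theorem rot6_17r : band (Rule.ok (2 * 9) EX RL ⟨6 :: [2, 8, 7, 3, 4, 5, 6, 2, 8, 7, 3, 4, 5, 6, 2, 8, 7, 3, 4, 5, 6, 2, 8, 7, 3, 4, 5, 6, 2, 8, 7, 3, 4, 5, 6, 2, 8, 7, 3, 4, 5, 6, 2, 8, 7, 3, 4, 5, 6, 2, 8, 7, 3, 4, 5, 6, 2, 8, 7, 3, 4, 5], [2, 10], 36, false⟩) (lall (memL L) [2, 8, 7, 3, 4, 5, 6, 2, 8, 7, 3, 4, 5, 6, 2, 8, 7, 3, 4, 5, 6, 2, 8, 7, 3, 4, 5, 6, 2, 8, 7, 3, 4, 5, 6, 2, 8, 7, 3, 4, 5, 6, 2, 8, 7, 3, 4, 5, 6, 2, 8, 7, 3, 4, 5, 6, 2, 8, 7, 3, 4, 5]) = true := by decide +kernel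

theorem cov6 : T.cover 6 [(sel (ones 12672) ip6 1), (sel (ones 12672) ip6 2), (sel (ones 12672) ip6 3), (sel (ones 12672) ip6 4), (sel (ones 12672) ip6 5), (sel (ones 12672) ip6 6), (sel (ones 12672) ip6 7), (sel (ones 12672) ip6 8), (sel (ones 12672) ip6 9), (sel (ones 12672) ip6 10), (sel (ones 12672) ip6 11), (sel (ones 12672) ip6 12), (sel (ones 12672) ip6 13), (sel (ones 12672) ip6 14), (sel (ones 12672) ip6 15), (sel (ones 12672) ip6 16), (sel (ones 12672) ip6 17), 1] = true := by decide +kernel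

theorem tl6 : T.treeLt 14 6 = true := by decide +kernel

theorem rot7_1 : T.rot 7 [7] (sel (ones 12672) ip7 1) = true := by decide +kernel

theorem rot7_1r : band (Rule.ok (2 * 9) EX RL ⟨7 :: [7], [], 40, false⟩) (lall (memL L) [7]) = true := by decide +kernel

theorem rot7_2 : T.rot 7 [2, 7, 2] (sel (ones 12672) ip7 2) = true := by decide +kernel

theorem rot7_2r : band (Rule.ok (2 * 9) EX RL ⟨7 :: [2, 7, 2], [], 4, true⟩) (lall (memL L) [2, 7, 2]) = true := by decide +kernel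

theorem rot7_3 : T.rot 7 [4, 7, 4] (sel (ones 12672) ip7 3) = true := by decide +kernel

theorem rot7_3r : band (Rule.ok (2 * 9) EX RL ⟨7 :: [4, 7, 4], [], 15, true⟩) (lall (memL L) [4, 7, 4]) = true := by decide +kernel

theorem rot7_4 : T.rot 7 [5, 7, 5] (sel (ones 12672) ip7 4) = true := by decide +kernel

theorem rot7_4r : band (Rule.ok (2 * 9) EX RL ⟨7 :: [5, 7, 5], [], 19, true⟩) (lall (memL L) [5, 7, 5]) = true := by decide +kernel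

theorem rot7_5 : T.rot 7 [6, 7, 6] (sel (ones 12672) ip7 5) = true := by decide +kernel

theorem rot7_5r : band (Rule.ok (2 * 9) EX RL ⟨7 :: [6, 7, 6], [], 22, true⟩) (lall (memL L) [6, 7, 6]) = true := by decide +kernel

theorem rot7_6 : T.rot 7 [9, 7, 9] (sel (ones 12672) ip7 6) = true := by decide +kernel

theorem rot7_6r : band (Rule.ok (2 * 9) EX RL ⟨7 :: [9, 7, 9], [], 26, false⟩) (lall (memL L) [9, 7, 9]) = true := by decide +kernel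

theorem rot7_7 : T.rot 7 [1, 7, 1] (sel (ones 12672) ip7 7) = true := by decide +kernel

theorem rot7_7r : band (Rule.ok (2 * 9) EX RL ⟨7 :: [1, 7, 1], [], 33, true⟩) (lall (memL L) [1, 7, 1]) = true := by decide +kernel

theorem rot7_8 : T.rot 7 [3, 7, 3, 7, 3] (sel (ones 12672) ip7 8) = true := by decide +kernel

theorem rot7_8r : band (Rule.ok (2 * 9) EX RL ⟨7 :: [3, 7, 3, 7, 3], [], 10, true⟩) (lall (memL L) [3, 7, 3, 7, 3]) = true := by decide +kernel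

theorem rot7_9 : T.rot 7 [8, 7, 8, 7, 8] (sel (ones 12672) ip7 9) = true := by decide +kernel

theorem rot7_9r : band (Rule.ok (2 * 9) EX RL ⟨7 :: [8, 7, 8, 7, 8], [], 25, false⟩) (lall (memL L) [8, 7, 8, 7, 8]) = true := by decide +kernel

theorem rot7_10 : T.rot 7 [9, 5, 8, 9, 4, 3, 7, 8, 5, 9, 4, 5, 3, 4, 7, 3, 8, 7, 9, 5, 4, 3, 8] (sel (ones 12672) ip7 10) = true := by decide +kernel

theorem rot7_10r : band (Rule.ok (2 * 9) EX RL ⟨7 :: [9, 5, 8, 9, 4, 3, 7, 8, 5, 9, 4, 5, 3, 4, 7, 3, 8, 7, 9, 5, 4, 3, 8], [16, 8, 6, 4, 14], 37, true⟩) (lall (memL L) [9, 5, 8, 9, 4, 3, 7, 8, 5, 9, 4, 5, 3, 4, 7, 3, 8, 7, 9, 5, 4, 3, 8]) = true := by decide +kernel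

theorem rot7_11 : T.rot 7 [8, 5, 9, 4, 5, 3, 4, 7, 3, 8, 7, 9, 5, 4, 3, 8, 7, 9, 5, 8, 9, 4, 3] (sel (ones 12672) ip7 11) = true := by decide +kernel

theorem rot7_11r : band (Rule.ok (2 * 9) EX RL ⟨7 :: [8, 5, 9, 4, 5, 3, 4, 7, 3, 8, 7, 9, 5, 4, 3, 8, 7, 9, 5, 8, 9, 4, 3], [12, 14, 4, 12, 6, 4, 8, 6, 16, 8, 14, 12], 37, true⟩) (lall (memL L) [8, 5, 9, 4, 5, 3, 4, 7, 3, 8, 7, 9, 5, 4, 3, 8, 7, 9, 5, 8, 9, 4, 3]) = true := by decide +kernel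

theorem rot7_12 : T.rot 7 [3, 8, 7, 9, 5, 4, 3, 8, 7, 9, 5, 8, 9, 4, 3, 7, 8, 5, 9, 4, 5, 3, 4] (sel (ones 12672) ip7 12) = true := by decide +kernel

theorem rot7_12r : band (Rule.ok (2 * 9) EX RL ⟨7 :: [3, 8, 7, 9, 5, 4, 3, 8, 7, 9, 5, 8, 9, 4, 3, 7, 8, 5, 9, 4, 5, 3, 4], [12, 14, 4, 12], 37, true⟩) (lall (memL L) [3, 8, 7, 9, 5, 4, 3, 8, 7, 9, 5, 8, 9, 4, 3, 7, 8, 5, 9, 4, 5, 3, 4]) = true := by decide +kernel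

theorem rot7_13 : T.rot 7 [9, 5, 4, 3, 8, 7, 9, 5, 8, 9, 4, 3, 7, 8, 5, 9, 4, 5, 3, 4, 7, 3, 8] (sel (ones 12672) ip7 13) = true := by decide +kernel

theorem rot7_13r : band (Rule.ok (2 * 9) EX RL ⟨7 :: [9, 5, 4, 3, 8, 7, 9, 5, 8, 9, 4, 3, 7, 8, 5, 9, 4, 5, 3, 4, 7, 3, 8], [12], 37, true⟩) (lall (memL L) [9, 5, 4, 3, 8, 7, 9, 5, 8, 9, 4, 3, 7, 8, 5, 9, 4, 5, 3, 4, 7, 3, 8]) = true := by decide +kernel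

theorem rot7_14 : T.rot 7 [8, 3, 7, 4, 3, 5, 4, 9, 5, 8, 7, 3, 4, 9, 8, 5, 9, 7, 8, 3, 4, 5, 9] (sel (ones 12672) ip7 14) = true := by decide +kernel

theorem rot7_14r : band (Rule.ok (2 * 9) EX RL ⟨7 :: [8, 3, 7, 4, 3, 5, 4, 9, 5, 8, 7, 3, 4, 9, 8, 5, 9, 7, 8, 3, 4, 5, 9], [], 37, false⟩) (lall (memL L) [8, 3, 7, 4, 3, 5, 4, 9, 5, 8, 7, 3, 4, 9, 8, 5, 9, 7, 8, 3, 4, 5, 9]) = true := by decide +kernel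

theorem rot7_15 : T.rot 7 [4, 3, 5, 4, 9, 5, 8, 7, 3, 4, 9, 8, 5, 9, 7, 8, 3, 4, 5, 9, 7, 8, 3] (sel (ones 12672) ip7 15) = true := by decide +kernel

theorem rot7_15r : band (Rule.ok (2 * 9) EX RL ⟨7 :: [4, 3, 5, 4, 9, 5, 8, 7, 3, 4, 9, 8, 5, 9, 7, 8, 3, 4, 5, 9, 7, 8, 3], [12, 14, 4], 37, false⟩) (lall (memL L) [4, 3, 5, 4, 9, 5, 8, 7, 3, 4, 9, 8, 5, 9, 7, 8, 3, 4, 5, 9, 7, 8, 3]) = true := by decide +kernel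

theorem rot7_16 : T.rot 7 [3, 4, 9, 8, 5, 9, 7, 8, 3, 4, 5, 9, 7, 8, 3, 7, 4, 3, 5, 4, 9, 5, 8] (sel (ones 12672) ip7 16) = true := by decide +kernel

theorem rot7_16r : band (Rule.ok (2 * 9) EX RL ⟨7 :: [3, 4, 9, 8, 5, 9, 7, 8, 3, 4, 5, 9, 7, 8, 3, 7, 4, 3, 5, 4, 9, 5, 8], [12, 14, 4, 12, 6, 4, 8, 6, 16, 8, 14], 37, false⟩) (lall (memL L) [3, 4, 9, 8, 5, 9, 7, 8, 3, 4, 5, 9, 7, 8, 3, 7, 4, 3, 5, 4, 9, 5, 8]) = true := by decide +kernel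

theorem rot7_17 : T.rot 7 [8, 3, 4, 5, 9, 7, 8, 3, 7, 4, 3, 5, 4, 9, 5, 8, 7, 3, 4, 9, 8, 5, 9] (sel (ones 12672) ip7 17) = true := by decide +kernel

theorem rot7_17r : band (Rule.ok (2 * 9) EX RL ⟨7 :: [8, 3, 4, 5, 9, 7, 8, 3, 7, 4, 3, 5, 4, 9, 5, 8, 7, 3, 4, 9, 8, 5, 9], [16, 8, 6, 4, 14, 12], 37, false⟩) (lall (memL L) [8, 3, 4, 5, 9, 7, 8, 3, 7, 4, 3, 5, 4, 9, 5, 8, 7, 3, 4, 9, 8, 5, 9]) = true := by decide +kernel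

theorem rot7_18 : T.rot 7 [9, 5, 6, 3, 4, 5, 9, 7, 3, 4, 5, 6, 7, 3, 4, 5, 7, 3, 4, 7, 3, 7, 9, 5, 4, 3, 6, 5, 4] (sel (ones 12672) ip7 18) = true := by decide +kernel

theorem rot7_18r : band (Rule.ok (2 * 9) EX RL ⟨7 :: [9, 5, 6, 3, 4, 5, 9, 7, 3, 4, 5, 6, 7, 3, 4, 5, 7, 3, 4, 7, 3, 7, 9, 5, 4, 3, 6, 5, 4], [16, 8, 6, 4, 10, 8, 6], 38, true⟩) (lall (memL L) [9, 5, 6, 3, 4, 5, 9, 7, 3, 4, 5, 6, 7, 3, 4, 5, 7, 3, 4, 7, 3, 7, 9, 5, 4, 3, 6, 5, 4]) = true := by decide +kernel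

theorem rot7_19 : T.rot 7 [3, 4, 5, 6, 7, 3, 4, 5, 7, 3, 4, 7, 3, 7, 9, 5, 4, 3, 6, 5, 4, 7, 9, 5, 6, 3, 4, 5, 9] (sel (ones 12672) ip7 19) = true := by decide +kernel

theorem rot7_19r : band (Rule.ok (2 * 9) EX RL ⟨7 :: [3, 4, 5, 6, 7, 3, 4, 5, 7, 3, 4, 7, 3, 7, 9, 5, 4, 3, 6, 5, 4, 7, 9, 5, 6, 3, 4, 5, 9], [12, 4, 12, 6, 4, 12, 8, 6, 4, 12, 10, 8, 6, 4, 12], 38, true⟩) (lall (memL L) [3, 4, 5, 6, 7, 3, 4, 5, 7, 3, 4, 7, 3, 7, 9, 5, 4, 3, 6, 5, 4, 7, 9, 5, 6, 3, 4, 5, 9]) = true := by decide +kernel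

theorem rot7_20 : T.rot 7 [3, 4, 5, 7, 3, 4, 7, 3, 7, 9, 5, 4, 3, 6, 5, 4, 7, 9, 5, 6, 3, 4, 5, 9, 7, 3, 4, 5, 6] (sel (ones 12672) ip7 20) = true := by decide +kernel

theorem rot7_20r : band (Rule.ok (2 * 9) EX RL ⟨7 :: [3, 4, 5, 7, 3, 4, 7, 3, 7, 9, 5, 4, 3, 6, 5, 4, 7, 9, 5, 6, 3, 4, 5, 9, 7, 3, 4, 5, 6], [12, 4, 12, 6, 4, 12, 8, 6, 4, 12], 38, true⟩) (lall (memL L) [3, 4, 5, 7, 3, 4, 7, 3, 7, 9, 5, 4, 3, 6, 5, 4, 7, 9, 5, 6, 3, 4, 5, 9, 7, 3, 4, 5, 6]) = true := by decide +kernel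

theorem rot7_21 : T.rot 7 [3, 4, 7, 3, 7, 9, 5, 4, 3, 6, 5, 4, 7, 9, 5, 6, 3, 4, 5, 9, 7, 3, 4, 5, 6, 7, 3, 4, 5] (sel (ones 12672) ip7 21) = true := by decide +kernel

theorem rot7_21r : band (Rule.ok (2 * 9) EX RL ⟨7 :: [3, 4, 7, 3, 7, 9, 5, 4, 3, 6, 5, 4, 7, 9, 5, 6, 3, 4, 5, 9, 7, 3, 4, 5, 6, 7, 3, 4, 5], [12, 4, 12, 6, 4, 12], 38, true⟩) (lall (memL L) [3, 4, 7, 3, 7, 9, 5, 4, 3, 6, 5, 4, 7, 9, 5, 6, 3, 4, 5, 9, 7, 3, 4, 5, 6, 7, 3, 4, 5]) = true := by decide +kernel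

theorem rot7_22 : T.rot 7 [3, 7, 9, 5, 4, 3, 6, 5, 4, 7, 9, 5, 6, 3, 4, 5, 9, 7, 3, 4, 5, 6, 7, 3, 4, 5, 7, 3, 4] (sel (ones 12672) ip7 22) = true := by decide +kernel

theorem rot7_22r : band (Rule.ok (2 * 9) EX RL ⟨7 :: [3, 7, 9, 5, 4, 3, 6, 5, 4, 7, 9, 5, 6, 3, 4, 5, 9, 7, 3, 4, 5, 6, 7, 3, 4, 5, 7, 3, 4], [12, 4, 12], 38, true⟩) (lall (memL L) [3, 7, 9, 5, 4, 3, 6, 5, 4, 7, 9, 5, 6, 3, 4, 5, 9, 7, 3, 4, 5, 6, 7, 3, 4, 5, 7, 3, 4]) = true := by decide +kernel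

theorem rot7_23 : T.rot 7 [9, 5, 4, 3, 6, 5, 4, 7, 9, 5, 6, 3, 4, 5, 9, 7, 3, 4, 5, 6, 7, 3, 4, 5, 7, 3, 4, 7, 3] (sel (ones 12672) ip7 23) = true := by decide +kernel

theorem rot7_23r : band (Rule.ok (2 * 9) EX RL ⟨7 :: [9, 5, 4, 3, 6, 5, 4, 7, 9, 5, 6, 3, 4, 5, 9, 7, 3, 4, 5, 6, 7, 3, 4, 5, 7, 3, 4, 7, 3], [12], 38, true⟩) (lall (memL L) [9, 5, 4, 3, 6, 5, 4, 7, 9, 5, 6, 3, 4, 5, 9, 7, 3, 4, 5, 6, 7, 3, 4, 5, 7, 3, 4, 7, 3]) = true := by decide +kernel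

theorem rot7_24 : T.rot 7 [3, 7, 4, 3, 7, 5, 4, 3, 7, 6, 5, 4, 3, 7, 9, 5, 4, 3, 6, 5, 9, 7, 4, 5, 6, 3, 4, 5, 9] (sel (ones 12672) ip7 24) = true := by decide +kernel

theorem rot7_24r : band (Rule.ok (2 * 9) EX RL ⟨7 :: [3, 7, 4, 3, 7, 5, 4, 3, 7, 6, 5, 4, 3, 7, 9, 5, 4, 3, 6, 5, 9, 7, 4, 5, 6, 3, 4, 5, 9], [], 38, false⟩) (lall (memL L) [3, 7, 4, 3, 7, 5, 4, 3, 7, 6, 5, 4, 3, 7, 9, 5, 4, 3, 6, 5, 9, 7, 4, 5, 6, 3, 4, 5, 9]) = true := by decide +kernel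

theorem rot7_25 : T.rot 7 [4, 3, 7, 5, 4, 3, 7, 6, 5, 4, 3, 7, 9, 5, 4, 3, 6, 5, 9, 7, 4, 5, 6, 3, 4, 5, 9, 7, 3] (sel (ones 12672) ip7 25) = true := by decide +kernel

theorem rot7_25r : band (Rule.ok (2 * 9) EX RL ⟨7 :: [4, 3, 7, 5, 4, 3, 7, 6, 5, 4, 3, 7, 9, 5, 4, 3, 6, 5, 9, 7, 4, 5, 6, 3, 4, 5, 9, 7, 3], [12, 4], 38, false⟩) (lall (memL L) [4, 3, 7, 5, 4, 3, 7, 6, 5, 4, 3, 7, 9, 5, 4, 3, 6, 5, 9, 7, 4, 5, 6, 3, 4, 5, 9, 7, 3]) = true := by decide +kernel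

theorem rot7_26 : T.rot 7 [5, 4, 3, 7, 6, 5, 4, 3, 7, 9, 5, 4, 3, 6, 5, 9, 7, 4, 5, 6, 3, 4, 5, 9, 7, 3, 7, 4, 3] (sel (ones 12672) ip7 26) = true := by decide +kernel

theorem rot7_26r : band (Rule.ok (2 * 9) EX RL ⟨7 :: [5, 4, 3, 7, 6, 5, 4, 3, 7, 9, 5, 4, 3, 6, 5, 9, 7, 4, 5, 6, 3, 4, 5, 9, 7, 3, 7, 4, 3], [12, 4, 12, 6, 4], 38, false⟩) (lall (memL L) [5, 4, 3, 7, 6, 5, 4, 3, 7, 9, 5, 4, 3, 6, 5, 9, 7, 4, 5, 6, 3, 4, 5, 9, 7, 3, 7, 4, 3]) = true := by decide +kernel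

theorem rot7_27 : T.rot 7 [6, 5, 4, 3, 7, 9, 5, 4, 3, 6, 5, 9, 7, 4, 5, 6, 3, 4, 5, 9, 7, 3, 7, 4, 3, 7, 5, 4, 3] (sel (ones 12672) ip7 27) = true := by decide +kernel

theorem rot7_27r : band (Rule.ok (2 * 9) EX RL ⟨7 :: [6, 5, 4, 3, 7, 9, 5, 4, 3, 6, 5, 9, 7, 4, 5, 6, 3, 4, 5, 9, 7, 3, 7, 4, 3, 7, 5, 4, 3], [12, 4, 12, 6, 4, 12, 8, 6, 4], 38, false⟩) (lall (memL L) [6, 5, 4, 3, 7, 9, 5, 4, 3, 6, 5, 9, 7, 4, 5, 6, 3, 4, 5, 9, 7, 3, 7, 4, 3, 7, 5, 4, 3]) = true := by decide +kernel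

theorem rot7_28 : T.rot 7 [9, 5, 4, 3, 6, 5, 9, 7, 4, 5, 6, 3, 4, 5, 9, 7, 3, 7, 4, 3, 7, 5, 4, 3, 7, 6, 5, 4, 3] (sel (ones 12672) ip7 28) = true := by decide +kernel

theorem rot7_28r : band (Rule.ok (2 * 9) EX RL ⟨7 :: [9, 5, 4, 3, 6, 5, 9, 7, 4, 5, 6, 3, 4, 5, 9, 7, 3, 7, 4, 3, 7, 5, 4, 3, 7, 6, 5, 4, 3], [12, 4, 12, 6, 4, 12, 8, 6, 4, 12, 10, 8, 6, 4], 38, false⟩) (lall (memL L) [9, 5, 4, 3, 6, 5, 9, 7, 4, 5, 6, 3, 4, 5, 9, 7, 3, 7, 4, 3, 7, 5, 4, 3, 7, 6, 5, 4, 3]) = true := by decide +kernel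

theorem rot7_29 : T.rot 7 [4, 5, 6, 3, 4, 5, 9, 7, 3, 7, 4, 3, 7, 5, 4, 3, 7, 6, 5, 4, 3, 7, 9, 5, 4, 3, 6, 5, 9] (sel (ones 12672) ip7 29) = true := by decide +kernel

theorem rot7_29r : band (Rule.ok (2 * 9) EX RL ⟨7 :: [4, 5, 6, 3, 4, 5, 9, 7, 3, 7, 4, 3, 7, 5, 4, 3, 7, 6, 5, 4, 3, 7, 9, 5, 4, 3, 6, 5, 9], [16, 8, 6, 4, 10, 8, 6, 12], 38, false⟩) (lall (memL L) [4, 5, 6, 3, 4, 5, 9, 7, 3, 7, 4, 3, 7, 5, 4, 3, 7, 6, 5, 4, 3, 7, 9, 5, 4, 3, 6, 5, 9]) = true := by decide +kernel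

theorem rot7_30 : T.rot 7 [3, 4, 5, 9, 7, 3, 2, 4, 5, 3, 4, 7, 3, 2, 7, 3, 4, 5, 7, 3, 4, 7, 3, 7, 1, 9, 5, 4, 3, 2] (sel (ones 12672) ip7 30) = true := by decide +kernel

theorem rot7_30r : band (Rule.ok (2 * 9) EX RL ⟨7 :: [3, 4, 5, 9, 7, 3, 2, 4, 5, 3, 4, 7, 3, 2, 7, 3, 4, 5, 7, 3, 4, 7, 3, 7, 1, 9, 5, 4, 3, 2], [0, 16, 8, 6, 4, 2], 39, true⟩) (lall (memL L) [3, 4, 5, 9, 7, 3, 2, 4, 5, 3, 4, 7, 3, 2, 7, 3, 4, 5, 7, 3, 4, 7, 3, 7, 1, 9, 5, 4, 3, 2]) = true := by decide +kernel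

theorem rot7_31 : T.rot 7 [3, 2, 4, 5, 3, 4, 7, 3, 2, 7, 3, 4, 5, 7, 3, 4, 7, 3, 7, 1, 9, 5, 4, 3, 2, 7, 3, 4, 5, 9] (sel (ones 12672) ip7 31) = true := by decide +kernel

theorem rot7_31r : band (Rule.ok (2 * 9) EX RL ⟨7 :: [3, 2, 4, 5, 3, 4, 7, 3, 2, 7, 3, 4, 5, 7, 3, 4, 7, 3, 7, 1, 9, 5, 4, 3, 2, 7, 3, 4, 5, 9], [0, 16, 8, 6, 4, 2, 12, 4, 6, 8, 16], 39, true⟩) (lall (memL L) [3, 2, 4, 5, 3, 4, 7, 3, 2, 7, 3, 4, 5, 7, 3, 4, 7, 3, 7, 1, 9, 5, 4, 3, 2, 7, 3, 4, 5, 9]) = true := by decide +kernel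

theorem rot7_32 : T.rot 7 [3, 2, 7, 3, 4, 5, 7, 3, 4, 7, 3, 7, 1, 9, 5, 4, 3, 2, 7, 3, 4, 5, 9, 7, 3, 2, 4, 5, 3, 4] (sel (ones 12672) ip7 32) = true := by decide +kernel

theorem rot7_32r : band (Rule.ok (2 * 9) EX RL ⟨7 :: [3, 2, 7, 3, 4, 5, 7, 3, 4, 7, 3, 7, 1, 9, 5, 4, 3, 2, 7, 3, 4, 5, 9, 7, 3, 2, 4, 5, 3, 4], [12, 4, 12, 6, 4, 12, 8, 6, 4, 12, 2, 4, 12], 39, true⟩) (lall (memL L) [3, 2, 7, 3, 4, 5, 7, 3, 4, 7, 3, 7, 1, 9, 5, 4, 3, 2, 7, 3, 4, 5, 9, 7, 3, 2, 4, 5, 3, 4]) = true := by decide +kernel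

theorem rot7_33 : T.rot 7 [3, 4, 5, 7, 3, 4, 7, 3, 7, 1, 9, 5, 4, 3, 2, 7, 3, 4, 5, 9, 7, 3, 2, 4, 5, 3, 4, 7, 3, 2] (sel (ones 12672) ip7 33) = true := by decide +kernel

theorem rot7_33r : band (Rule.ok (2 * 9) EX RL ⟨7 :: [3, 4, 5, 7, 3, 4, 7, 3, 7, 1, 9, 5, 4, 3, 2, 7, 3, 4, 5, 9, 7, 3, 2, 4, 5, 3, 4, 7, 3, 2], [12, 4, 12, 6, 4, 12, 8, 6, 4, 12], 39, true⟩) (lall (memL L) [3, 4, 5, 7, 3, 4, 7, 3, 7, 1, 9, 5, 4, 3, 2, 7, 3, 4, 5, 9, 7, 3, 2, 4, 5, 3, 4, 7, 3, 2]) = true := by decide +kernel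

theorem rot7_34 : T.rot 7 [3, 4, 7, 3, 7, 1, 9, 5, 4, 3, 2, 7, 3, 4, 5, 9, 7, 3, 2, 4, 5, 3, 4, 7, 3, 2, 7, 3, 4, 5] (sel (ones 12672) ip7 34) = true := by decide +kernel

theorem rot7_34r : band (Rule.ok (2 * 9) EX RL ⟨7 :: [3, 4, 7, 3, 7, 1, 9, 5, 4, 3, 2, 7, 3, 4, 5, 9, 7, 3, 2, 4, 5, 3, 4, 7, 3, 2, 7, 3, 4, 5], [12, 4, 12, 6, 4, 12], 39, true⟩) (lall (memL L) [3, 4, 7, 3, 7, 1, 9, 5, 4, 3, 2, 7, 3, 4, 5, 9, 7, 3, 2, 4, 5, 3, 4, 7, 3, 2, 7, 3, 4, 5]) = true := by decide +kernel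

theorem rot7_35 : T.rot 7 [3, 7, 1, 9, 5, 4, 3, 2, 7, 3, 4, 5, 9, 7, 3, 2, 4, 5, 3, 4, 7, 3, 2, 7, 3, 4, 5, 7, 3, 4] (sel (ones 12672) ip7 35) = true := by decide +kernel

theorem rot7_35r : band (Rule.ok (2 * 9) EX RL ⟨7 :: [3, 7, 1, 9, 5, 4, 3, 2, 7, 3, 4, 5, 9, 7, 3, 2, 4, 5, 3, 4, 7, 3, 2, 7, 3, 4, 5, 7, 3, 4], [12, 4, 12], 39, true⟩) (lall (memL L) [3, 7, 1, 9, 5, 4, 3, 2, 7, 3, 4, 5, 9, 7, 3, 2, 4, 5, 3, 4, 7, 3, 2, 7, 3, 4, 5, 7, 3, 4]) = true := by decide +kernel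

theorem rot7_36 : T.rot 7 [4, 3, 7, 5, 4, 3, 7, 2, 3, 7, 4, 3, 5, 4, 2, 3, 7, 9, 5, 4, 3, 7, 2, 3, 4, 5, 9, 1, 7, 3] (sel (ones 12672) ip7 36) = true := by decide +kernel

theorem rot7_36r : band (Rule.ok (2 * 9) EX RL ⟨7 :: [4, 3, 7, 5, 4, 3, 7, 2, 3, 7, 4, 3, 5, 4, 2, 3, 7, 9, 5, 4, 3, 7, 2, 3, 4, 5, 9, 1, 7, 3], [12, 4], 39, false⟩) (lall (memL L) [4, 3, 7, 5, 4, 3, 7, 2, 3, 7, 4, 3, 5, 4, 2, 3, 7, 9, 5, 4, 3, 7, 2, 3, 4, 5, 9, 1, 7, 3]) = true := by decide +kernel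

theorem rot7_37 : T.rot 7 [5, 4, 3, 7, 2, 3, 7, 4, 3, 5, 4, 2, 3, 7, 9, 5, 4, 3, 7, 2, 3, 4, 5, 9, 1, 7, 3, 7, 4, 3] (sel (ones 12672) ip7 37) = true := by decide +kernel

theorem rot7_37r : band (Rule.ok (2 * 9) EX RL ⟨7 :: [5, 4, 3, 7, 2, 3, 7, 4, 3, 5, 4, 2, 3, 7, 9, 5, 4, 3, 7, 2, 3, 4, 5, 9, 1, 7, 3, 7, 4, 3], [12, 4, 12, 6, 4], 39, false⟩) (lall (memL L) [5, 4, 3, 7, 2, 3, 7, 4, 3, 5, 4, 2, 3, 7, 9, 5, 4, 3, 7, 2, 3, 4, 5, 9, 1, 7, 3, 7, 4, 3]) = true := by decide +kernel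

theorem rot7_38 : T.rot 7 [2, 3, 7, 4, 3, 5, 4, 2, 3, 7, 9, 5, 4, 3, 7, 2, 3, 4, 5, 9, 1, 7, 3, 7, 4, 3, 7, 5, 4, 3] (sel (ones 12672) ip7 38) = true := by decide +kernel

theorem rot7_38r : band (Rule.ok (2 * 9) EX RL ⟨7 :: [2, 3, 7, 4, 3, 5, 4, 2, 3, 7, 9, 5, 4, 3, 7, 2, 3, 4, 5, 9, 1, 7, 3, 7, 4, 3, 7, 5, 4, 3], [12, 4, 12, 6, 4, 12, 8, 6, 4], 39, false⟩) (lall (memL L) [2, 3, 7, 4, 3, 5, 4, 2, 3, 7, 9, 5, 4, 3, 7, 2, 3, 4, 5, 9, 1, 7, 3, 7, 4, 3, 7, 5, 4, 3]) = true := by decide +kernel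

theorem rot7_39 : T.rot 7 [4, 3, 5, 4, 2, 3, 7, 9, 5, 4, 3, 7, 2, 3, 4, 5, 9, 1, 7, 3, 7, 4, 3, 7, 5, 4, 3, 7, 2, 3] (sel (ones 12672) ip7 39) = true := by decide +kernel

theorem rot7_39r : band (Rule.ok (2 * 9) EX RL ⟨7 :: [4, 3, 5, 4, 2, 3, 7, 9, 5, 4, 3, 7, 2, 3, 4, 5, 9, 1, 7, 3, 7, 4, 3, 7, 5, 4, 3, 7, 2, 3], [12, 4, 12, 6, 4, 12, 8, 6, 4, 12, 2, 4], 39, false⟩) (lall (memL L) [4, 3, 5, 4, 2, 3, 7, 9, 5, 4, 3, 7, 2, 3, 4, 5, 9, 1, 7, 3, 7, 4, 3, 7, 5, 4, 3, 7, 2, 3]) = true := by decide +kernel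

theorem rot7_40 : T.rot 7 [9, 5, 4, 3, 7, 2, 3, 4, 5, 9, 1, 7, 3, 7, 4, 3, 7, 5, 4, 3, 7, 2, 3, 7, 4, 3, 5, 4, 2, 3] (sel (ones 12672) ip7 40) = true := by decide +kernel

theorem rot7_40r : band (Rule.ok (2 * 9) EX RL ⟨7 :: [9, 5, 4, 3, 7, 2, 3, 4, 5, 9, 1, 7, 3, 7, 4, 3, 7, 5, 4, 3, 7, 2, 3, 7, 4, 3, 5, 4, 2, 3], [0, 16, 8, 6, 4, 2, 12, 4, 6, 8, 16, 12], 39, false⟩) (lall (memL L) [9, 5, 4, 3, 7, 2, 3, 4, 5, 9, 1, 7, 3, 7, 4, 3, 7, 5, 4, 3, 7, 2, 3, 7, 4, 3, 5, 4, 2, 3]) = true := by decide +kernel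

theorem rot7_41 : T.rot 7 [2, 3, 4, 5, 9, 1, 7, 3, 7, 4, 3, 7, 5, 4, 3, 7, 2, 3, 7, 4, 3, 5, 4, 2, 3, 7, 9, 5, 4, 3] (sel (ones 12672) ip7 41) = true := by decide +kernel

theorem rot7_41r : band (Rule.ok (2 * 9) EX RL ⟨7 :: [2, 3, 4, 5, 9, 1, 7, 3, 7, 4, 3, 7, 5, 4, 3, 7, 2, 3, 7, 4, 3, 5, 4, 2, 3, 7, 9, 5, 4, 3], [0, 16, 8, 6, 4, 2, 12], 39, false⟩) (lall (memL L) [2, 3, 4, 5, 9, 1, 7, 3, 7, 4, 3, 7, 5, 4, 3, 7, 2, 3, 7, 4, 3, 5, 4, 2, 3, 7, 9, 5, 4, 3]) = true := by decide +kernel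

theorem rot7_42 : T.rot 7 [8, 2, 6, 5, 4, 3, 7, 8, 2, 6, 5, 4, 3, 7, 8, 2, 6, 5, 4, 3, 7, 8, 2, 6, 5, 4, 3, 7, 8, 2, 6, 5, 4, 3, 7, 8, 2, 6, 5, 4, 3, 7, 8, 2, 6, 5, 4, 3, 7, 8, 2, 6, 5, 4, 3, 7, 8, 2, 6, 5, 4, 3] (sel (ones 12672) ip7 42) = true := by decide +kernel

theorem rot7_42r : band (Rule.ok (2 * 9) EX RL ⟨7 :: [8, 2, 6, 5, 4, 3, 7, 8, 2, 6, 5, 4, 3, 7, 8, 2, 6, 5, 4, 3, 7, 8, 2, 6, 5, 4, 3, 7, 8, 2, 6, 5, 4, 3, 7, 8, 2, 6, 5, 4, 3, 7, 8, 2, 6, 5, 4, 3, 7, 8, 2, 6, 5, 4, 3, 7, 8, 2, 6, 5, 4, 3], [14, 12], 36, true⟩) (lall (memL L) [8, 2, 6, 5, 4, 3, 7, 8, 2, 6, 5, 4, 3, 7, 8, 2, 6, 5, 4, 3, 7, 8, 2, 6, 5, 4, 3, 7, 8, 2, 6, 5, 4, 3, 7, 8, 2, 6, 5, 4, 3, 7, 8, 2, 6, 5, 4, 3, 7, 8, 2, 6, 5, 4, 3, 7, 8, 2, 6, 5, 4, 3]) = true := by decide +kernel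

theorem rot7_43 : T.rot 7 [3, 4, 5, 6, 2, 8, 7, 3, 4, 5, 6, 2, 8, 7, 3, 4, 5, 6, 2, 8, 7, 3, 4, 5, 6, 2, 8, 7, 3, 4, 5, 6, 2, 8, 7, 3, 4, 5, 6, 2, 8, 7, 3, 4, 5, 6, 2, 8, 7, 3, 4, 5, 6, 2, 8, 7, 3, 4, 5, 6, 2, 8] (sel (ones 12672) ip7 43) = true := by decide +kernel

theorem rot7_43r : band (Rule.ok (2 * 9) EX RL ⟨7 :: [3, 4, 5, 6, 2, 8, 7, 3, 4, 5, 6, 2, 8, 7, 3, 4, 5, 6, 2, 8, 7, 3, 4, 5, 6, 2, 8, 7, 3, 4, 5, 6, 2, 8, 7, 3, 4, 5, 6, 2, 8, 7, 3, 4, 5, 6, 2, 8, 7, 3, 4, 5, 6, 2, 8, 7, 3, 4, 5, 6, 2, 8], [14], 36, false⟩) (lall (memL L) [3, 4, 5, 6, 2, 8, 7, 3, 4, 5, 6, 2, 8, 7, 3, 4, 5, 6, 2, 8, 7, 3, 4, 5, 6, 2, 8, 7, 3, 4, 5, 6, 2, 8, 7, 3, 4, 5, 6, 2, 8, 7, 3, 4, 5, 6, 2, 8, 7, 3, 4, 5, 6, 2, 8, 7, 3, 4, 5, 6, 2, 8]) = true := by decide +kernel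

theorem cov7 : T.cover 7 [(sel (ones 12672) ip7 1), (sel (ones 12672) ip7 2), (sel (ones 12672) ip7 3), (sel (ones 12672) ip7 4), (sel (ones 12672) ip7 5), (sel (ones 12672) ip7 6), (sel (ones 12672) ip7 7), (sel (ones 12672) ip7 8), (sel (ones 12672) ip7 9), (sel (ones 12672) ip7 10), (sel (ones 12672) ip7 11), (sel (ones 12672) ip7 12), (sel (ones 12672) ip7 13), (sel (ones 12672) ip7 14), (sel (ones 12672) ip7 15), (sel (ones 12672) ip7 16), (sel (ones 12672) ip7 17), (sel (ones 12672) ip7 18), (sel (ones 12672) ip7 19), (sel (ones 12672) ip7 20), (sel (ones 12672) ip7 21), (sel (ones 12672) ip7 22), (sel (ones 12672) ip7 23), (sel (ones 12672) ip7 24), (sel (ones 12672) ip7 25), (sel (ones 12672) ip7 26), (sel (ones 12672) ip7 27), (sel (ones 12672) ip7 28), (sel (ones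 12672) ip7 29), (sel (ones 12672) ip7 30), (sel (ones 12672) ip7 31), (sel (ones 12672) ip7 32), (sel (ones 12672) ip7 33), (sel (ones 12672) ip7 34), (sel (ones 12672) ip7 35), (sel (ones 12672) ip7 36), (sel (ones 12672) ip7 37), (sel (ones 12672) ip7 38), (sel (ones 12672) ip7 39), (sel (ones 12672) ip7 40), (sel (ones 12672) ip7 41), (sel (ones 12672) ip7 42), (sel (ones 12672) ip7 43), 1] = true := by decide +kernel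

theorem tl7 : T.treeLt 14 7 = true := by decide +kernel

theorem rot8_1 : T.rot 8 [8] (sel (ones 12672) ip8 1) = true := by decide +kernel

theorem rot8_1r : band (Rule.ok (2 * 9) EX RL ⟨8 :: [8], [], 40, false⟩) (lall (memL L) [8]) = true := by decide +kernel

theorem rot8_2 : T.rot 8 [2, 8, 2] (sel (ones 12672) ip8 2) = true := by decide +kernel

theorem rot8_2r : band (Rule.ok (2 * 9) EX RL ⟨8 :: [2, 8, 2], [], 5, true⟩) (lall (memL L) [2, 8, 2]) = true := by decide +kernel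

theorem rot8_3 : T.rot 8 [3, 8, 3] (sel (ones 12672) ip8 3) = true := by decide +kernel

theorem rot8_3r : band (Rule.ok (2 * 9) EX RL ⟨8 :: [3, 8, 3], [], 11, true⟩) (lall (memL L) [3, 8, 3]) = true := by decide +kernel

theorem rot8_4 : T.rot 8 [4, 8, 4] (sel (ones 12672) ip8 4) = true := by decide +kernel

theorem rot8_4r : band (Rule.ok (2 * 9) EX RL ⟨8 :: [4, 8, 4], [], 16, true⟩) (lall (memL L) [4, 8, 4]) = true := by decide +kernel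

theorem rot8_5 : T.rot 8 [5, 8, 5] (sel (ones 12672) ip8 5) = true := by decide +kernel

theorem rot8_5r : band (Rule.ok (2 * 9) EX RL ⟨8 :: [5, 8, 5], [], 20, true⟩) (lall (memL L) [5, 8, 5]) = true := by decide +kernel

theorem rot8_6 : T.rot 8 [6, 8, 6] (sel (ones 12672) ip8 6) = true := by decide +kernel

theorem rot8_6r : band (Rule.ok (2 * 9) EX RL ⟨8 :: [6, 8, 6], [], 23, true⟩) (lall (memL L) [6, 8, 6]) = true := by decide +kernel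

theorem rot8_7 : T.rot 8 [1, 8, 1] (sel (ones 12672) ip8 7) = true := by decide +kernel

theorem rot8_7r : band (Rule.ok (2 * 9) EX RL ⟨8 :: [1, 8, 1], [], 34, true⟩) (lall (memL L) [1, 8, 1]) = true := by decide +kernel

theorem rot8_8 : T.rot 8 [7, 8, 7, 8, 7] (sel (ones 12672) ip8 8) = true := by decide +kernel

theorem rot8_8r : band (Rule.ok (2 * 9) EX RL ⟨8 :: [7, 8, 7, 8, 7], [], 25, true⟩) (lall (memL L) [7, 8, 7, 8, 7]) = true := by decide +kernel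

theorem rot8_9 : T.rot 8 [9, 8, 9, 8, 9] (sel (ones 12672) ip8 9) = true := by decide +kernel

theorem rot8_9r : band (Rule.ok (2 * 9) EX RL ⟨8 :: [9, 8, 9, 8, 9], [], 27, false⟩) (lall (memL L) [9, 8, 9, 8, 9]) = true := by decide +kernel

theorem rot8_10 : T.rot 8 [7, 9, 5, 8, 9, 4, 3, 7, 8, 5, 9, 4, 5, 3, 4, 7, 3, 8, 7, 9, 5, 4, 3] (sel (ones 12672) ip8 10) = true := by decide +kernel

theorem rot8_10r : band (Rule.ok (2 * 9) EX RL ⟨8 :: [7, 9, 5, 8, 9, 4, 3, 7, 8, 5, 9, 4, 5, 3, 4, 7, 3, 8, 7, 9, 5, 4, 3], [16, 8, 6, 4], 37, true⟩) (lall (memL L) [7, 9, 5, 8, 9, 4, 3, 7, 8, 5, 9, 4, 5, 3, 4, 7, 3, 8, 7, 9, 5, 4, 3]) = true := by decide +kernel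

theorem rot8_11 : T.rot 8 [9, 4, 3, 7, 8, 5, 9, 4, 5, 3, 4, 7, 3, 8, 7, 9, 5, 4, 3, 8, 7, 9, 5] (sel (ones 12672) ip8 11) = true := by decide +kernel

theorem rot8_11r : band (Rule.ok (2 * 9) EX RL ⟨8 :: [9, 4, 3, 7, 8, 5, 9, 4, 5, 3, 4, 7, 3, 8, 7, 9, 5, 4, 3, 8, 7, 9, 5], [16, 8, 6, 4, 14, 12, 16, 8], 37, true⟩) (lall (memL L) [9, 4, 3, 7, 8, 5, 9, 4, 5, 3, 4, 7, 3, 8, 7, 9, 5, 4, 3, 8, 7, 9, 5]) = true := by decide +kernel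

theorem rot8_12 : T.rot 8 [5, 9, 4, 5, 3, 4, 7, 3, 8, 7, 9, 5, 4, 3, 8, 7, 9, 5, 8, 9, 4, 3, 7] (sel (ones 12672) ip8 12) = true := by decide +kernel

theorem rot8_12r : band (Rule.ok (2 * 9) EX RL ⟨8 :: [5, 9, 4, 5, 3, 4, 7, 3, 8, 7, 9, 5, 4, 3, 8, 7, 9, 5, 8, 9, 4, 3, 7], [12, 14, 4, 12, 6, 4, 8, 6, 16, 8, 14], 37, true⟩) (lall (memL L) [5, 9, 4, 5, 3, 4, 7, 3, 8, 7, 9, 5, 4, 3, 8, 7, 9, 5, 8, 9, 4, 3, 7]) = true := by decide +kernel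

theorem rot8_13 : T.rot 8 [7, 9, 5, 4, 3, 8, 7, 9, 5, 8, 9, 4, 3, 7, 8, 5, 9, 4, 5, 3, 4, 7, 3] (sel (ones 12672) ip8 13) = true := by decide +kernel

theorem rot8_13r : band (Rule.ok (2 * 9) EX RL ⟨8 :: [7, 9, 5, 4, 3, 8, 7, 9, 5, 8, 9, 4, 3, 7, 8, 5, 9, 4, 5, 3, 4, 7, 3], [12, 14], 37, true⟩) (lall (memL L) [7, 9, 5, 4, 3, 8, 7, 9, 5, 8, 9, 4, 3, 7, 8, 5, 9, 4, 5, 3, 4, 7, 3]) = true := by decide +kernel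

theorem rot8_14 : T.rot 8 [3, 7, 4, 3, 5, 4, 9, 5, 8, 7, 3, 4, 9, 8, 5, 9, 7, 8, 3, 4, 5, 9, 7] (sel (ones 12672) ip8 14) = true := by decide +kernel

theorem rot8_14r : band (Rule.ok (2 * 9) EX RL ⟨8 :: [3, 7, 4, 3, 5, 4, 9, 5, 8, 7, 3, 4, 9, 8, 5, 9, 7, 8, 3, 4, 5, 9, 7], [12], 37, false⟩) (lall (memL L) [3, 7, 4, 3, 5, 4, 9, 5, 8, 7, 3, 4, 9, 8, 5, 9, 7, 8, 3, 4, 5, 9, 7]) = true := by decide +kernel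

theorem rot8_15 : T.rot 8 [7, 3, 4, 9, 8, 5, 9, 7, 8, 3, 4, 5, 9, 7, 8, 3, 7, 4, 3, 5, 4, 9, 5] (sel (ones 12672) ip8 15) = true := by decide +kernel

theorem rot8_15r : band (Rule.ok (2 * 9) EX RL ⟨8 :: [7, 3, 4, 9, 8, 5, 9, 7, 8, 3, 4, 5, 9, 7, 8, 3, 7, 4, 3, 5, 4, 9, 5], [12, 14, 4, 12, 6, 4, 8, 6, 16, 8], 37, false⟩) (lall (memL L) [7, 3, 4, 9, 8, 5, 9, 7, 8, 3, 4, 5, 9, 7, 8, 3, 7, 4, 3, 5, 4, 9, 5]) = true := by decide +kernel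

theorem rot8_16 : T.rot 8 [5, 9, 7, 8, 3, 4, 5, 9, 7, 8, 3, 7, 4, 3, 5, 4, 9, 5, 8, 7, 3, 4, 9] (sel (ones 12672) ip8 16) = true := by decide +kernel

theorem rot8_16r : band (Rule.ok (2 * 9) EX RL ⟨8 :: [5, 9, 7, 8, 3, 4, 5, 9, 7, 8, 3, 7, 4, 3, 5, 4, 9, 5, 8, 7, 3, 4, 9], [16, 8, 6, 4, 14, 12, 16, 8, 14], 37, false⟩) (lall (memL L) [5, 9, 7, 8, 3, 4, 5, 9, 7, 8, 3, 7, 4, 3, 5, 4, 9, 5, 8, 7, 3, 4, 9]) = true := by decide +kernel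

theorem rot8_17 : T.rot 8 [3, 4, 5, 9, 7, 8, 3, 7, 4, 3, 5, 4, 9, 5, 8, 7, 3, 4, 9, 8, 5, 9, 7] (sel (ones 12672) ip8 17) = true := by decide +kernel

theorem rot8_17r : band (Rule.ok (2 * 9) EX RL ⟨8 :: [3, 4, 5, 9, 7, 8, 3, 7, 4, 3, 5, 4, 9, 5, 8, 7, 3, 4, 9, 8, 5, 9, 7], [16, 8, 6, 4, 14], 37, false⟩) (lall (memL L) [3, 4, 5, 9, 7, 8, 3, 7, 4, 3, 5, 4, 9, 5, 8, 7, 3, 4, 9, 8, 5, 9, 7]) = true := by decide +kernel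

theorem rot8_18 : T.rot 8 [2, 6, 5, 4, 3, 7, 8, 2, 6, 5, 4, 3, 7, 8, 2, 6, 5, 4, 3, 7, 8, 2, 6, 5, 4, 3, 7, 8, 2, 6, 5, 4, 3, 7, 8, 2, 6, 5, 4, 3, 7, 8, 2, 6, 5, 4, 3, 7, 8, 2, 6, 5, 4, 3, 7, 8, 2, 6, 5, 4, 3, 7] (sel (ones 12672) ip8 18) = true := by decide +kernel

theorem rot8_18r : band (Rule.ok (2 * 9) EX RL ⟨8 :: [2, 6, 5, 4, 3, 7, 8, 2, 6, 5, 4, 3, 7, 8, 2, 6, 5, 4, 3, 7, 8, 2, 6, 5, 4, 3, 7, 8, 2, 6, 5, 4, 3, 7, 8, 2, 6, 5, 4, 3, 7, 8, 2, 6, 5, 4, 3, 7, 8, 2, 6, 5, 4, 3, 7, 8, 2, 6, 5, 4, 3, 7], [14], 36, true⟩) (lall (memL L) [2, 6, 5, 4, 3, 7, 8, 2, 6, 5, 4, 3, 7, 8, 2, 6, 5, 4, 3, 7, 8, 2, 6, 5, 4, 3, 7, 8, 2, 6, 5, 4, 3, 7, 8, 2, 6, 5, 4, 3, 7, 8, 2, 6, 5, 4, 3, 7, 8, 2, 6, 5, 4, 3, 7, 8, 2, 6, 5, 4, 3, 7]) = true := by decide +kernel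

theorem rot8_19 : T.rot 8 [7, 3, 4, 5, 6, 2, 8, 7, 3, 4, 5, 6, 2, 8, 7, 3, 4, 5, 6, 2, 8, 7, 3, 4, 5, 6, 2, 8, 7, 3, 4, 5, 6, 2, 8, 7, 3, 4, 5, 6, 2, 8, 7, 3, 4, 5, 6, 2, 8, 7, 3, 4, 5, 6, 2, 8, 7, 3, 4, 5, 6, 2] (sel (ones 12672) ip8 19) = true := by decide +kernel

theorem rot8_19r : band (Rule.ok (2 * 9) EX RL ⟨8 :: [7, 3, 4, 5, 6, 2, 8, 7, 3, 4, 5, 6, 2, 8, 7, 3, 4, 5, 6, 2, 8, 7, 3, 4, 5, 6, 2, 8, 7, 3, 4, 5, 6, 2, 8, 7, 3, 4, 5, 6, 2, 8, 7, 3, 4, 5, 6, 2, 8, 7, 3, 4, 5, 6, 2, 8, 7, 3, 4, 5, 6, 2], [], 36, false⟩) (lall (memL L) [7, 3, 4, 5, 6, 2, 8, 7, 3, 4, 5, 6, 2, 8, 7, 3, 4, 5, 6, 2, 8, 7, 3, 4, 5, 6, 2, 8, 7, 3, 4, 5, 6, 2, 8, 7, 3, 4, 5, 6, 2, 8, 7, 3, 4, 5, 6, 2, 8, 7, 3, 4, 5, 6, 2, 8, 7, 3, 4, 5, 6, 2]) = true := by decide +kernel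

theorem cov8 : T.cover 8 [(sel (ones 12672) ip8 1), (sel (ones 12672) ip8 2), (sel (ones 12672) ip8 3), (sel (ones 12672) ip8 4), (sel (ones 12672) ip8 5), (sel (ones 12672) ip8 6), (sel (ones 12672) ip8 7), (sel (ones 12672) ip8 8), (sel (ones 12672) ip8 9), (sel (ones 12672) ip8 10), (sel (ones 12672) ip8 11), (sel (ones 12672) ip8 12), (sel (ones 12672) ip8 13), (sel (ones 12672) ip8 14), (sel (ones 12672) ip8 15), (sel (ones 12672) ip8 16), (sel (ones 12672) ip8 17), (sel (ones 12672) ip8 18), (sel (ones 12672) ip8 19), 1] = true := by decide +kernel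

theorem tl8 : T.treeLt 14 8 = true := by decide +kernel

theorem rot9_1 : T.rot 9 [9] (sel (ones 12672) ip9 1) = true := by decide +kernel

theorem rot9_1r : band (Rule.ok (2 * 9) EX RL ⟨9 :: [9], [], 40, false⟩) (lall (memL L) [9]) = true := by decide +kernel

theorem rot9_2 : T.rot 9 [2, 9, 2] (sel (ones 12672) ip9 2) = true := by decide +kernel

theorem rot9_2r : band (Rule.ok (2 * 9) EX RL ⟨9 :: [2, 9, 2], [], 6, true⟩) (lall (memL L) [2, 9, 2]) = true := by decide +kernel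

theorem rot9_3 : T.rot 9 [3, 9, 3] (sel (ones 12672) ip9 3) = true := by decide +kernel

theorem rot9_3r : band (Rule.ok (2 * 9) EX RL ⟨9 :: [3, 9, 3], [], 12, true⟩) (lall (memL L) [3, 9, 3]) = true := by decide +kernel

theorem rot9_4 : T.rot 9 [4, 9, 4] (sel (ones 12672) ip9 4) = true := by decide +kernel

theorem rot9_4r : band (Rule.ok (2 * 9) EX RL ⟨9 :: [4, 9, 4], [], 17, true⟩) (lall (memL L) [4, 9, 4]) = true := by decide +kernel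

theorem rot9_5 : T.rot 9 [6, 9, 6] (sel (ones 12672) ip9 5) = true := by decide +kernel

theorem rot9_5r : band (Rule.ok (2 * 9) EX RL ⟨9 :: [6, 9, 6], [], 24, true⟩) (lall (memL L) [6, 9, 6]) = true := by decide +kernel

theorem rot9_6 : T.rot 9 [7, 9, 7] (sel (ones 12672) ip9 6) = true := by decide +kernel

theorem rot9_6r : band (Rule.ok (2 * 9) EX RL ⟨9 :: [7, 9, 7], [], 26, true⟩) (lall (memL L) [7, 9, 7]) = true := by decide +kernel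

theorem rot9_7 : T.rot 9 [5, 9, 5, 9, 5] (sel (ones 12672) ip9 7) = true := by decide +kernel

theorem rot9_7r : band (Rule.ok (2 * 9) EX RL ⟨9 :: [5, 9, 5, 9, 5], [], 21, true⟩) (lall (memL L) [5, 9, 5, 9, 5]) = true := by decide +kernel

theorem rot9_8 : T.rot 9 [8, 9, 8, 9, 8] (sel (ones 12672) ip9 8) = true := by decide +kernel

theorem rot9_8r : band (Rule.ok (2 * 9) EX RL ⟨9 :: [8, 9, 8, 9, 8], [], 27, true⟩) (lall (memL L) [8, 9, 8, 9, 8]) = true := by decide +kernel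

theorem rot9_9 : T.rot 9 [5, 4, 3, 8, 7, 9, 5, 8, 9, 4, 3, 7, 8, 5, 9, 4, 5, 3, 4, 7, 3, 8, 7] (sel (ones 12672) ip9 9) = true := by decide +kernel

theorem rot9_9r : band (Rule.ok (2 * 9) EX RL ⟨9 :: [5, 4, 3, 8, 7, 9, 5, 8, 9, 4, 3, 7, 8, 5, 9, 4, 5, 3, 4, 7, 3, 8, 7], [], 37, true⟩) (lall (memL L) [5, 4, 3, 8, 7, 9, 5, 8, 9, 4, 3, 7, 8, 5, 9, 4, 5, 3, 4, 7, 3, 8, 7]) = true := by decide +kernel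

theorem rot9_10 : T.rot 9 [5, 8, 9, 4, 3, 7, 8, 5, 9, 4, 5, 3, 4, 7, 3, 8, 7, 9, 5, 4, 3, 8, 7] (sel (ones 12672) ip9 10) = true := by decide +kernel

theorem rot9_10r : band (Rule.ok (2 * 9) EX RL ⟨9 :: [5, 8, 9, 4, 3, 7, 8, 5, 9, 4, 5, 3, 4, 7, 3, 8, 7, 9, 5, 4, 3, 8, 7], [16, 8, 6, 4, 14, 12], 37, true⟩) (lall (memL L) [5, 8, 9, 4, 3, 7, 8, 5, 9, 4, 5, 3, 4, 7, 3, 8, 7, 9, 5, 4, 3, 8, 7]) = true := by decide +kernel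

theorem rot9_11 : T.rot 9 [4, 3, 7, 8, 5, 9, 4, 5, 3, 4, 7, 3, 8, 7, 9, 5, 4, 3, 8, 7, 9, 5, 8] (sel (ones 12672) ip9 11) = true := by decide +kernel

theorem rot9_11r : band (Rule.ok (2 * 9) EX RL ⟨9 :: [4, 3, 7, 8, 5, 9, 4, 5, 3, 4, 7, 3, 8, 7, 9, 5, 4, 3, 8, 7, 9, 5, 8], [16, 8, 6, 4, 14, 12, 16, 8, 14], 37, true⟩) (lall (memL L) [4, 3, 7, 8, 5, 9, 4, 5, 3, 4, 7, 3, 8, 7, 9, 5, 4, 3, 8, 7, 9, 5, 8]) = true := by decide +kernel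

theorem rot9_12 : T.rot 9 [4, 5, 3, 4, 7, 3, 8, 7, 9, 5, 4, 3, 8, 7, 9, 5, 8, 9, 4, 3, 7, 8, 5] (sel (ones 12672) ip9 12) = true := by decide +kernel

theorem rot9_12r : band (Rule.ok (2 * 9) EX RL ⟨9 :: [4, 5, 3, 4, 7, 3, 8, 7, 9, 5, 4, 3, 8, 7, 9, 5, 8, 9, 4, 3, 7, 8, 5], [12, 14, 4, 12, 6, 4, 8, 6, 16], 37, true⟩) (lall (memL L) [4, 5, 3, 4, 7, 3, 8, 7, 9, 5, 4, 3, 8, 7, 9, 5, 8, 9, 4, 3, 7, 8, 5]) = true := by decide +kernel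

theorem rot9_13 : T.rot 9 [5, 8, 7, 3, 4, 9, 8, 5, 9, 7, 8, 3, 4, 5, 9, 7, 8, 3, 7, 4, 3, 5, 4] (sel (ones 12672) ip9 13) = true := by decide +kernel

theorem rot9_13r : band (Rule.ok (2 * 9) EX RL ⟨9 :: [5, 8, 7, 3, 4, 9, 8, 5, 9, 7, 8, 3, 4, 5, 9, 7, 8, 3, 7, 4, 3, 5, 4], [12, 14, 4, 12, 6, 4, 8, 6], 37, false⟩) (lall (memL L) [5, 8, 7, 3, 4, 9, 8, 5, 9, 7, 8, 3, 4, 5, 9, 7, 8, 3, 7, 4, 3, 5, 4]) = true := by decide +kernel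

theorem rot9_14 : T.rot 9 [8, 5, 9, 7, 8, 3, 4, 5, 9, 7, 8, 3, 7, 4, 3, 5, 4, 9, 5, 8, 7, 3, 4] (sel (ones 12672) ip9 14) = true := by decide +kernel

theorem rot9_14r : band (Rule.ok (2 * 9) EX RL ⟨9 :: [8, 5, 9, 7, 8, 3, 4, 5, 9, 7, 8, 3, 7, 4, 3, 5, 4, 9, 5, 8, 7, 3, 4], [16, 8, 6, 4, 14, 12, 16, 8, 14, 16], 37, false⟩) (lall (memL L) [8, 5, 9, 7, 8, 3, 4, 5, 9, 7, 8, 3, 7, 4, 3, 5, 4, 9, 5, 8, 7, 3, 4]) = true := by decide +kernel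

theorem rot9_15 : T.rot 9 [7, 8, 3, 4, 5, 9, 7, 8, 3, 7, 4, 3, 5, 4, 9, 5, 8, 7, 3, 4, 9, 8, 5] (sel (ones 12672) ip9 15) = true := by decide +kernel

theorem rot9_15r : band (Rule.ok (2 * 9) EX RL ⟨9 :: [7, 8, 3, 4, 5, 9, 7, 8, 3, 7, 4, 3, 5, 4, 9, 5, 8, 7, 3, 4, 9, 8, 5], [16, 8, 6, 4, 14, 12, 16], 37, false⟩) (lall (memL L) [7, 8, 3, 4, 5, 9, 7, 8, 3, 7, 4, 3, 5, 4, 9, 5, 8, 7, 3, 4, 9, 8, 5]) = true := by decide +kernel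

theorem rot9_16 : T.rot 9 [7, 8, 3, 7, 4, 3, 5, 4, 9, 5, 8, 7, 3, 4, 9, 8, 5, 9, 7, 8, 3, 4, 5] (sel (ones 12672) ip9 16) = true := by decide +kernel

theorem rot9_16r : band (Rule.ok (2 * 9) EX RL ⟨9 :: [7, 8, 3, 7, 4, 3, 5, 4, 9, 5, 8, 7, 3, 4, 9, 8, 5, 9, 7, 8, 3, 4, 5], [16], 37, false⟩) (lall (memL L) [7, 8, 3, 7, 4, 3, 5, 4, 9, 5, 8, 7, 3, 4, 9, 8, 5, 9, 7, 8, 3, 4, 5]) = true := by decide +kernel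

theorem rot9_17 : T.rot 9 [5, 4, 3, 6, 5, 4, 7, 9, 5, 6, 3, 4, 5, 9, 7, 3, 4, 5, 6, 7, 3, 4, 5, 7, 3, 4, 7, 3, 7] (sel (ones 12672) ip9 17) = true := by decide +kernel

theorem rot9_17r : band (Rule.ok (2 * 9) EX RL ⟨9 :: [5, 4, 3, 6, 5, 4, 7, 9, 5, 6, 3, 4, 5, 9, 7, 3, 4, 5, 6, 7, 3, 4, 5, 7, 3, 4, 7, 3, 7], [], 38, true⟩) (lall (memL L) [5, 4, 3, 6, 5, 4, 7, 9, 5, 6, 3, 4, 5, 9, 7, 3, 4, 5, 6, 7, 3, 4, 5, 7, 3, 4, 7, 3, 7]) = true := by decide +kernel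

theorem rot9_18 : T.rot 9 [5, 6, 3, 4, 5, 9, 7, 3, 4, 5, 6, 7, 3, 4, 5, 7, 3, 4, 7, 3, 7, 9, 5, 4, 3, 6, 5, 4, 7] (sel (ones 12672) ip9 18) = true := by decide +kernel

theorem rot9_18r : band (Rule.ok (2 * 9) EX RL ⟨9 :: [5, 6, 3, 4, 5, 9, 7, 3, 4, 5, 6, 7, 3, 4, 5, 7, 3, 4, 7, 3, 7, 9, 5, 4, 3, 6, 5, 4, 7], [16, 8, 6, 4, 10, 8, 6, 12], 38, true⟩) (lall (memL L) [5, 6, 3, 4, 5, 9, 7, 3, 4, 5, 6, 7, 3, 4, 5, 7, 3, 4, 7, 3, 7, 9, 5, 4, 3, 6, 5, 4, 7]) = true := by decide +kernel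

theorem rot9_19 : T.rot 9 [7, 3, 4, 5, 6, 7, 3, 4, 5, 7, 3, 4, 7, 3, 7, 9, 5, 4, 3, 6, 5, 4, 7, 9, 5, 6, 3, 4, 5] (sel (ones 12672) ip9 19) = true := by decide +kernel

theorem rot9_19r : band (Rule.ok (2 * 9) EX RL ⟨9 :: [7, 3, 4, 5, 6, 7, 3, 4, 5, 7, 3, 4, 7, 3, 7, 9, 5, 4, 3, 6, 5, 4, 7, 9, 5, 6, 3, 4, 5], [16, 8, 6, 4, 10, 8, 6, 12, 16, 8, 10, 4, 6, 8], 38, true⟩) (lall (memL L) [7, 3, 4, 5, 6, 7, 3, 4, 5, 7, 3, 4, 7, 3, 7, 9, 5, 4, 3, 6, 5, 4, 7, 9, 5, 6, 3, 4, 5]) = true := by decide +kernel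

theorem rot9_20 : T.rot 9 [5, 4, 3, 6, 5, 9, 7, 4, 5, 6, 3, 4, 5, 9, 7, 3, 7, 4, 3, 7, 5, 4, 3, 7, 6, 5, 4, 3, 7] (sel (ones 12672) ip9 20) = true := by decide +kernel

theorem rot9_20r : band (Rule.ok (2 * 9) EX RL ⟨9 :: [5, 4, 3, 6, 5, 9, 7, 4, 5, 6, 3, 4, 5, 9, 7, 3, 7, 4, 3, 7, 5, 4, 3, 7, 6, 5, 4, 3, 7], [16, 8, 6, 4, 10, 8, 6, 12, 16, 8, 10, 4, 6, 8, 16], 38, false⟩) (lall (memL L) [5, 4, 3, 6, 5, 9, 7, 4, 5, 6, 3, 4, 5, 9, 7, 3, 7, 4, 3, 7, 5, 4, 3, 7, 6, 5, 4, 3, 7]) = true := by decide +kernel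

theorem rot9_21 : T.rot 9 [7, 4, 5, 6, 3, 4, 5, 9, 7, 3, 7, 4, 3, 7, 5, 4, 3, 7, 6, 5, 4, 3, 7, 9, 5, 4, 3, 6, 5] (sel (ones 12672) ip9 21) = true := by decide +kernel

theorem rot9_21r : band (Rule.ok (2 * 9) EX RL ⟨9 :: [7, 4, 5, 6, 3, 4, 5, 9, 7, 3, 7, 4, 3, 7, 5, 4, 3, 7, 6, 5, 4, 3, 7, 9, 5, 4, 3, 6, 5], [16, 8, 6, 4, 10, 8, 6, 12, 16], 38, false⟩) (lall (memL L) [7, 4, 5, 6, 3, 4, 5, 9, 7, 3, 7, 4, 3, 7, 5, 4, 3, 7, 6, 5, 4, 3, 7, 9, 5, 4, 3, 6, 5]) = true := by decide +kernel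

theorem rot9_22 : T.rot 9 [7, 3, 7, 4, 3, 7, 5, 4, 3, 7, 6, 5, 4, 3, 7, 9, 5, 4, 3, 6, 5, 9, 7, 4, 5, 6, 3, 4, 5] (sel (ones 12672) ip9 22) = true := by decide +kernel

theorem rot9_22r : band (Rule.ok (2 * 9) EX RL ⟨9 :: [7, 3, 7, 4, 3, 7, 5, 4, 3, 7, 6, 5, 4, 3, 7, 9, 5, 4, 3, 6, 5, 9, 7, 4, 5, 6, 3, 4, 5], [16], 38, false⟩) (lall (memL L) [7, 3, 7, 4, 3, 7, 5, 4, 3, 7, 6, 5, 4, 3, 7, 9, 5, 4, 3, 6, 5, 9, 7, 4, 5, 6, 3, 4, 5]) = true := by decide +kernel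

theorem rot9_23 : T.rot 9 [5, 4, 3, 2, 7, 3, 4, 5, 9, 7, 3, 2, 4, 5, 3, 4, 7, 3, 2, 7, 3, 4, 5, 7, 3, 4, 7, 3, 7, 1] (sel (ones 12672) ip9 23) = true := by decide +kernel

theorem rot9_23r : band (Rule.ok (2 * 9) EX RL ⟨9 :: [5, 4, 3, 2, 7, 3, 4, 5, 9, 7, 3, 2, 4, 5, 3, 4, 7, 3, 2, 7, 3, 4, 5, 7, 3, 4, 7, 3, 7, 1], [0], 39, true⟩) (lall (memL L) [5, 4, 3, 2, 7, 3, 4, 5, 9, 7, 3, 2, 4, 5, 3, 4, 7, 3, 2, 7, 3, 4, 5, 7, 3, 4, 7, 3, 7, 1]) = true := by decide +kernel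

theorem rot9_24 : T.rot 9 [7, 3, 2, 4, 5, 3, 4, 7, 3, 2, 7, 3, 4, 5, 7, 3, 4, 7, 3, 7, 1, 9, 5, 4, 3, 2, 7, 3, 4, 5] (sel (ones 12672) ip9 24) = true := by decide +kernel

theorem rot9_24r : band (Rule.ok (2 * 9) EX RL ⟨9 :: [7, 3, 2, 4, 5, 3, 4, 7, 3, 2, 7, 3, 4, 5, 7, 3, 4, 7, 3, 7, 1, 9, 5, 4, 3, 2, 7, 3, 4, 5], [0, 16, 8, 6, 4, 2, 12, 4, 6, 8], 39, true⟩) (lall (memL L) [7, 3, 2, 4, 5, 3, 4, 7, 3, 2, 7, 3, 4, 5, 7, 3, 4, 7, 3, 7, 1, 9, 5, 4, 3, 2, 7, 3, 4, 5]) = true := by decide +kernel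

theorem rot9_25 : T.rot 9 [5, 4, 3, 7, 2, 3, 4, 5, 9, 1, 7, 3, 7, 4, 3, 7, 5, 4, 3, 7, 2, 3, 7, 4, 3, 5, 4, 2, 3, 7] (sel (ones 12672) ip9 25) = true := by decide +kernel

theorem rot9_25r : band (Rule.ok (2 * 9) EX RL ⟨9 :: [5, 4, 3, 7, 2, 3, 4, 5, 9, 1, 7, 3, 7, 4, 3, 7, 5, 4, 3, 7, 2, 3, 7, 4, 3, 5, 4, 2, 3, 7], [0, 16, 8, 6, 4, 2, 12, 4, 6, 8, 16], 39, false⟩) (lall (memL L) [5, 4, 3, 7, 2, 3, 4, 5, 9, 1, 7, 3, 7, 4, 3, 7, 5, 4, 3, 7, 2, 3, 7, 4, 3, 5, 4, 2, 3, 7]) = true := by decide +kernel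

theorem rot9_26 : T.rot 9 [1, 7, 3, 7, 4, 3, 7, 5, 4, 3, 7, 2, 3, 7, 4, 3, 5, 4, 2, 3, 7, 9, 5, 4, 3, 7, 2, 3, 4, 5] (sel (ones 12672) ip9 26) = true := by decide +kernel

theorem rot9_26r : band (Rule.ok (2 * 9) EX RL ⟨9 :: [1, 7, 3, 7, 4, 3, 7, 5, 4, 3, 7, 2, 3, 7, 4, 3, 5, 4, 2, 3, 7, 9, 5, 4, 3, 7, 2, 3, 4, 5], [0, 16], 39, false⟩) (lall (memL L) [1, 7, 3, 7, 4, 3, 7, 5, 4, 3, 7, 2, 3, 7, 4, 3, 5, 4, 2, 3, 7, 9, 5, 4, 3, 7, 2, 3, 4, 5]) = true := by decide +kernel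

theorem cov9 : T.cover 9 [(sel (ones 12672) ip9 1), (sel (ones 12672) ip9 2), (sel (ones 12672) ip9 3), (sel (ones 12672) ip9 4), (sel (ones 12672) ip9 5), (sel (ones 12672) ip9 6), (sel (ones 12672) ip9 7), (sel (ones 12672) ip9 8), (sel (ones 12672) ip9 9), (sel (ones 12672) ip9 10), (sel (ones 12672) ip9 11), (sel (ones 12672) ip9 12), (sel (ones 12672) ip9 13), (sel (ones 12672) ip9 14), (sel (ones 12672) ip9 15), (sel (ones 12672) ip9 16), (sel (ones 12672) ip9 17), (sel (ones 12672) ip9 18), (sel (ones 12672) ip9 19), (sel (ones 12672) ip9 20), (sel (ones 12672) ip9 21), (sel (ones 12672) ip9 22), (sel (ones 12672) ip9 23), (sel (ones 12672) ip9 24), (sel (ones 12672) ip9 25), (sel (ones 12672) ip9 26)] = true := by decide +kernel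

theorem tl9 : T.treeLt 14 9 = true := by decide +kernel

end Cfsg.Agent.Spor.U12672
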